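import Cfsg.Agent.J4Index22.Mod
import Cfsg.Agent.J4Index22.Check.C0
import Cfsg.Agent.J4Index22.Check.C1
import Cfsg.Agent.J4Index22.Check.C2
import Cfsg.Agent.J4Index22.Check.C3
import Cfsg.Agent.J4Index22.Check.C4
import Cfsg.Agent.J4Index22.Check.C5
import Cfsg.Agent.J4Index22.Check.C6
import Cfsg.Agent.J4Index22.Check.C7
import Cfsg.Agent.J4Index22.Check.C8
import Cfsg.Agent.J4Index22.Check.C9
import Cfsg.Agent.J4Index22.Check.C10
import Cfsg.Agent.J4Index22.Check.C11
import Cfsg.Agent.J4Index22.Check.C12
import Cfsg.Agent.J4Index22.Check.C13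
import Cfsg.Agent.J4Index22.Check.C14
import Cfsg.Agent.J4Index22.Check.C15
import Cfsg.Agent.J4Index22.Check.C16
import Cfsg.Agent.J4Index22.Check.C17
import Cfsg.Agent.J4Index22.Check.C18
import Cfsg.Agent.J4Index22.Check.C19
import Cfsg.Agent.J4Index22.Check.C20
import Cfsg.Agent.J4Index22.Check.C21
import Cfsg.Agent.J4Index22.Check.N0
import Cfsg.Agent.J4Index22.Check.N1
import Cfsg.Agent.J4Index22.Check.N2
import Cfsg.Agent.J4Index22.Check.N3
import Cfsg.Agent.J4Index22.Check.N4
import Cfsg.Agent.J4Index22.Check.N5
import Cfsg.Agent.J4Index22.Check.N6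
import Cfsg.Agent.J4Index22.Check.N7
import Cfsg.Agent.J4Index22.Check.N8
import Cfsg.Agent.J4Index22.Check.N9
import Cfsg.Agent.J4Index22.Check.N10
import Cfsg.Agent.J4Index22.Check.N11
import Cfsg.Agent.J4Index22.Check.N12
import Cfsg.Agent.J4Index22.Check.N13
import Cfsg.Agent.J4Index22.Check.N14
import Cfsg.Agent.J4Index22.Check.N15
import Cfsg.Agent.J4Index22.Check.N16
import Cfsg.Agent.J4Index22.Check.N17
import Cfsg.Agent.J4Index22.Check.N18
import Cfsg.Agent.J4Index22.Check.N19

/-!
The subgroup `<x, y, (y w⁻¹ t w) ^ 3>` of the presented fourth Janko group has index at most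
173067389.
-/

set_option autoImplicit false
set_option maxRecDepth 100000

namespace CfsgLib.J4Index22

open Cfsg CfsgLib.CosetEnum CfsgLib.J4M24 DCert22

attribute [local irreducible] encP J4M24.phi one pk invAux

/-- the conjugating word -/
abbrev wF : FreeGroup Spor.J4.Gen :=
  (Spor.J4.y * Spor.J4.x) ^ 4 * Spor.J4.y⁻¹ * Spor.J4.x

/-- the third generator -/
abbrev mF : FreeGroup Spor.J4.Gen := (Spor.J4.y * wF⁻¹ * Spor.J4.t * wF) ^ 3

/-- the subgroup of index 173067389 -/
abbrev bigM : Subgroup Spor.J4 :=
  ((Subgroup.closure ({Spor.J4.x, Spor.J4.y, mF} : Set (FreeGroup Spor.J4.Gen))).map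
    (PresentedGroup.mk (Spor.coxRelators Spor.J4.edges ∪ {r | r ∈ Spor.J4.extra})))

/-- where the cut words come from -/
def cuts : List (ℕ × ℕ) := [(10, 10), (10, 28), (10, 46), (11, 22), (11, 43), (11, 85), (11, 106)]

/-- the third relator list entry `k` -/
def extraAt (k : ℕ) : FreeGroup Spor.J4.Gen := Spor.J4.extra.getD k 1

theorem rels_eq : ((List.range Tab.cert.rels.length).all fun i =>
    wordEq (word opsJ (cutPath (extraAt (cuts.getD i (0, 0)).1) (cuts.getD i (0, 0)).2))
      (Tab.cert.rels.getD i (0, [])) && Nat.blt (cuts.getD i (0, 0)).1 12) = true := by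
  decide +kernel

theorem rels_one (i : ℕ) (w : ℕ × List ℕ) (h : Tab.cert.rels[i]? = some w) :
    model.wordVal w = 1 := by
  obtain ⟨hi, he⟩ := List.getElem?_eq_some_iff.1 h
  have h1 := List.all_eq_true.1 rels_eq i (List.mem_range.2 hi)
  rw [List.getD_eq_getElem _ _ hi, he, Bool.and_eq_true] at h1
  have hlt : (cuts.getD i (0, 0)).1 < Spor.J4.extra.length := by
    simpa [Nat.blt, Nat.ble_eq, Spor.J4.extra] using h1.2
  rw [← wordEq_eq h1.1]
  refine cutPath_spec ?_ _
  rw [extraAt, List.getD_eq_getElem _ _ hlt]
  exact List.getElem_mem hlt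

/-- the subgroup generators as words -/
def subList : List (FreeGroup Spor.J4.Gen) := [Spor.J4.x, Spor.J4.y, mF]

theorem subs_eq : ((List.range Tab.cert.subs.length).all fun i =>
    wordEq (word opsJ ((lettersOf (subList.getD i 1)).map opOf)) (Tab.cert.subs.getD i (0, []))) =
    true := by
  decide +kernel

theorem subs_mem (i : ℕ) (w : ℕ × List ℕ) (h : Tab.cert.subs[i]? = some w) :
    model.wordVal w ∈ bigM := by
  obtain ⟨hi, he⟩ := List.getElem?_eq_some_iff.1 h
  have h1 := List.all_eq_true.1 subs_eq i (List.mem_range.2 hi)
  rw [List.getD_eq_getElem _ _ hi, he] at h1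
  rw [← wordEq_eq h1, (model.word_spec _ (pathOk_letters _).1).2, ← mk_eq_pathVal]
  refine Subgroup.mem_map_of_mem _ ?_
  by_cases hm : subList.getD i 1 = 1
  · rw [hm]; exact one_mem _
  refine Subgroup.subset_closure ?_
  have hlt : i < subList.length := by
    by_contra hge
    exact hm (List.getD_eq_default _ _ (by omega))
  have h3 : i < 3 := hlt
  interval_cases i <;> simp [subList]

theorem nodes_le : ((List.range Tab.cert.nodes.length).all fun k =>
    Nat.ble (Tab.cert.nodes.getD k (0, 0)).1 k) = true := by decide +kernel

theorem certOK : CertOK model bigM Tab.cert := by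
  refine ⟨fun k a x h => ?_, rels_one, subs_mem⟩
  obtain ⟨hk, he⟩ := List.getElem?_eq_some_iff.1 h
  have h2 := List.all_eq_true.1 nodes_le k (List.mem_range.2 hk)
  rw [List.getD_eq_getElem _ _ hk, he] at h2
  exact Nat.le_of_ble_eq_true h2

theorem facts_ok : ∀ i < 5626, factOK opsJ Tab.cert i = true := by
  intro i hi
  by_cases h0 : i < 256
  · have h := rangeOK_spec Tab.facts0_ok (i - 0) (by omega)
    rwa [show 0 + (i - 0) = i by omega] at h
  by_cases h1 : i < 512
  · have h := rangeOK_spec Tab.facts1_ok (i - 256) (by omega)
    rwa [show 256 + (i - 256) = i by omega] at h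
  by_cases h2 : i < 768
  · have h := rangeOK_spec Tab.facts2_ok (i - 512) (by omega)
    rwa [show 512 + (i - 512) = i by omega] at h
  by_cases h3 : i < 1024
  · have h := rangeOK_spec Tab.facts3_ok (i - 768) (by omega)
    rwa [show 768 + (i - 768) = i by omega] at h
  by_cases h4 : i < 1280
  · have h := rangeOK_spec Tab.facts4_ok (i - 1024) (by omega)
    rwa [show 1024 + (i - 1024) = i by omega] at h
  by_cases h5 : i < 1536
  · have h := rangeOK_spec Tab.facts5_ok (i - 1280) (by omega)
    rwa [show 1280 + (i - 1280) = i by omega] at h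
  by_cases h6 : i < 1792
  · have h := rangeOK_spec Tab.facts6_ok (i - 1536) (by omega)
    rwa [show 1536 + (i - 1536) = i by omega] at h
  by_cases h7 : i < 2048
  · have h := rangeOK_spec Tab.facts7_ok (i - 1792) (by omega)
    rwa [show 1792 + (i - 1792) = i by omega] at h
  by_cases h8 : i < 2304
  · have h := rangeOK_spec Tab.facts8_ok (i - 2048) (by omega)
    rwa [show 2048 + (i - 2048) = i by omega] at h
  by_cases h9 : i < 2560
  · have h := rangeOK_spec Tab.facts9_ok (i - 2304) (by omega)
    rwa [show 2304 + (i - 2304) = i by omega] at h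
  by_cases h10 : i < 2816
  · have h := rangeOK_spec Tab.facts10_ok (i - 2560) (by omega)
    rwa [show 2560 + (i - 2560) = i by omega] at h
  by_cases h11 : i < 3072
  · have h := rangeOK_spec Tab.facts11_ok (i - 2816) (by omega)
    rwa [show 2816 + (i - 2816) = i by omega] at h
  by_cases h12 : i < 3328
  · have h := rangeOK_spec Tab.facts12_ok (i - 3072) (by omega)
    rwa [show 3072 + (i - 3072) = i by omega] at h
  by_cases h13 : i < 3584
  · have h := rangeOK_spec Tab.facts13_ok (i - 3328) (by omega)
    rwa [show 3328 + (i - 3328) = i by omega] at h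
  by_cases h14 : i < 3840
  · have h := rangeOK_spec Tab.facts14_ok (i - 3584) (by omega)
    rwa [show 3584 + (i - 3584) = i by omega] at h
  by_cases h15 : i < 4096
  · have h := rangeOK_spec Tab.facts15_ok (i - 3840) (by omega)
    rwa [show 3840 + (i - 3840) = i by omega] at h
  by_cases h16 : i < 4352
  · have h := rangeOK_spec Tab.facts16_ok (i - 4096) (by omega)
    rwa [show 4096 + (i - 4096) = i by omega] at h
  by_cases h17 : i < 4608
  · have h := rangeOK_spec Tab.facts17_ok (i - 4352) (by omega)
    rwa [show 4352 + (i - 4352) = i by omega] at h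
  by_cases h18 : i < 4864
  · have h := rangeOK_spec Tab.facts18_ok (i - 4608) (by omega)
    rwa [show 4608 + (i - 4608) = i by omega] at h
  by_cases h19 : i < 5120
  · have h := rangeOK_spec Tab.facts19_ok (i - 4864) (by omega)
    rwa [show 4864 + (i - 4864) = i by omega] at h
  by_cases h20 : i < 5376
  · have h := rangeOK_spec Tab.facts20_ok (i - 5120) (by omega)
    rwa [show 5120 + (i - 5120) = i by omega] at h
  by_cases h21 : i < 5626
  · have h := rangeOK_spec Tab.facts21_ok (i - 5376) (by omega)
    rwa [show 5376 + (i - 5376) = i by omega] at h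
  omega

theorem allHold : AllHold model bigM Tab.cert 5626 := allHold_of_ranges model certOK facts_ok

/-- the live nodes -/
def liveJ : List ℕ := [0, 1, 2, 3, 4, 5, 6, 7, 8, 9, 10, 11, 12, 13, 14, 15, 16, 17, 18, 19]

theorem good0 : ∀ x, model.Ok x → Good model bigM Tab.cert liveJ 0 x := by
  have b0 := bitsGood_zero (live := liveJ) (L := bigM) (D := Tab.cert) model Tab.reps.get 0
  have b1 := segOK_spec model Tab.reps.get allHold b0 Tab.seg0_0
  have b2 := segOK_spec model Tab.reps.get allHold b1 Tab.seg0_1
  have b3 := segOK_spec model Tab.reps.get allHold b2 Tab.seg0_2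
  have b4 := segOK_spec model Tab.reps.get allHold b3 Tab.seg0_3
  have b5 := segOK_spec model Tab.reps.get allHold b4 Tab.seg0_4
  have b6 := segOK_spec model Tab.reps.get allHold b5 Tab.seg0_5
  have b7 := segOK_spec model Tab.reps.get allHold b6 Tab.seg0_6
  have b8 := segOK_spec model Tab.reps.get allHold b7 Tab.seg0_7
  have b9 := segOK_spec model Tab.reps.get allHold b8 Tab.seg0_8
  have b10 := segOK_spec model Tab.reps.get allHold b9 Tab.seg0_9
  have b11 := segOK_spec model Tab.reps.get allHold b10 Tab.seg0_10
  have b12 := segOK_spec model Tab.reps.get allHold b11 Tab.seg0_11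
  have b13 := segOK_spec model Tab.reps.get allHold b12 Tab.seg0_12
  have b14 := segOK_spec model Tab.reps.get allHold b13 Tab.seg0_13
  have b15 := segOK_spec model Tab.reps.get allHold b14 Tab.seg0_14
  have b16 := segOK_spec model Tab.reps.get allHold b15 Tab.seg0_15
  exact good_of_bits model Tab.reps.get b16 Tab.full0 cover

theorem good1 : ∀ x, model.Ok x → Good model bigM Tab.cert liveJ 1 x := by
  have b0 := bitsGood_zero (live := liveJ) (L := bigM) (D := Tab.cert) model Tab.reps.get 1
  have b1 := segOK_spec model Tab.reps.get allHold b0 Tab.seg1_0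
  have b2 := segOK_spec model Tab.reps.get allHold b1 Tab.seg1_1
  have b3 := segOK_spec model Tab.reps.get allHold b2 Tab.seg1_2
  have b4 := segOK_spec model Tab.reps.get allHold b3 Tab.seg1_3
  have b5 := segOK_spec model Tab.reps.get allHold b4 Tab.seg1_4
  have b6 := segOK_spec model Tab.reps.get allHold b5 Tab.seg1_5
  have b7 := segOK_spec model Tab.reps.get allHold b6 Tab.seg1_6
  have b8 := segOK_spec model Tab.reps.get allHold b7 Tab.seg1_7
  have b9 := segOK_spec model Tab.reps.get allHold b8 Tab.seg1_8
  have b10 := segOK_spec model Tab.reps.get allHold b9 Tab.seg1_9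
  have b11 := segOK_spec model Tab.reps.get allHold b10 Tab.seg1_10
  have b12 := segOK_spec model Tab.reps.get allHold b11 Tab.seg1_11
  have b13 := segOK_spec model Tab.reps.get allHold b12 Tab.seg1_12
  have b14 := segOK_spec model Tab.reps.get allHold b13 Tab.seg1_13
  have b15 := segOK_spec model Tab.reps.get allHold b14 Tab.seg1_14
  have b16 := segOK_spec model Tab.reps.get allHold b15 Tab.seg1_15
  exact good_of_bits model Tab.reps.get b16 Tab.full1 cover

theorem good2 : ∀ x, model.Ok x → Good model bigM Tab.cert liveJ 2 x := by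
  have b0 := bitsGood_zero (live := liveJ) (L := bigM) (D := Tab.cert) model Tab.reps.get 2
  have b1 := segOK_spec model Tab.reps.get allHold b0 Tab.seg2_0
  have b2 := segOK_spec model Tab.reps.get allHold b1 Tab.seg2_1
  have b3 := segOK_spec model Tab.reps.get allHold b2 Tab.seg2_2
  have b4 := segOK_spec model Tab.reps.get allHold b3 Tab.seg2_3
  have b5 := segOK_spec model Tab.reps.get allHold b4 Tab.seg2_4
  have b6 := segOK_spec model Tab.reps.get allHold b5 Tab.seg2_5
  have b7 := segOK_spec model Tab.reps.get allHold b6 Tab.seg2_6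
  have b8 := segOK_spec model Tab.reps.get allHold b7 Tab.seg2_7
  have b9 := segOK_spec model Tab.reps.get allHold b8 Tab.seg2_8
  have b10 := segOK_spec model Tab.reps.get allHold b9 Tab.seg2_9
  have b11 := segOK_spec model Tab.reps.get allHold b10 Tab.seg2_10
  have b12 := segOK_spec model Tab.reps.get allHold b11 Tab.seg2_11
  have b13 := segOK_spec model Tab.reps.get allHold b12 Tab.seg2_12
  have b14 := segOK_spec model Tab.reps.get allHold b13 Tab.seg2_13
  have b15 := segOK_spec model Tab.reps.get allHold b14 Tab.seg2_14
  have b16 := segOK_spec model Tab.reps.get allHold b15 Tab.seg2_15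
  exact good_of_bits model Tab.reps.get b16 Tab.full2 cover

theorem good3 : ∀ x, model.Ok x → Good model bigM Tab.cert liveJ 3 x := by
  have b0 := bitsGood_zero (live := liveJ) (L := bigM) (D := Tab.cert) model Tab.reps.get 3
  have b1 := segOK_spec model Tab.reps.get allHold b0 Tab.seg3_0
  have b2 := segOK_spec model Tab.reps.get allHold b1 Tab.seg3_1
  have b3 := segOK_spec model Tab.reps.get allHold b2 Tab.seg3_2
  have b4 := segOK_spec model Tab.reps.get allHold b3 Tab.seg3_3
  have b5 := segOK_spec model Tab.reps.get allHold b4 Tab.seg3_4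
  have b6 := segOK_spec model Tab.reps.get allHold b5 Tab.seg3_5
  have b7 := segOK_spec model Tab.reps.get allHold b6 Tab.seg3_6
  have b8 := segOK_spec model Tab.reps.get allHold b7 Tab.seg3_7
  have b9 := segOK_spec model Tab.reps.get allHold b8 Tab.seg3_8
  have b10 := segOK_spec model Tab.reps.get allHold b9 Tab.seg3_9
  have b11 := segOK_spec model Tab.reps.get allHold b10 Tab.seg3_10
  have b12 := segOK_spec model Tab.reps.get allHold b11 Tab.seg3_11
  have b13 := segOK_spec model Tab.reps.get allHold b12 Tab.seg3_12
  have b14 := segOK_spec model Tab.reps.get allHold b13 Tab.seg3_13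
  have b15 := segOK_spec model Tab.reps.get allHold b14 Tab.seg3_14
  have b16 := segOK_spec model Tab.reps.get allHold b15 Tab.seg3_15
  exact good_of_bits model Tab.reps.get b16 Tab.full3 cover

theorem good4 : ∀ x, model.Ok x → Good model bigM Tab.cert liveJ 4 x := by
  have b0 := bitsGood_zero (live := liveJ) (L := bigM) (D := Tab.cert) model Tab.reps.get 4
  have b1 := segOK_spec model Tab.reps.get allHold b0 Tab.seg4_0
  have b2 := segOK_spec model Tab.reps.get allHold b1 Tab.seg4_1
  have b3 := segOK_spec model Tab.reps.get allHold b2 Tab.seg4_2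
  have b4 := segOK_spec model Tab.reps.get allHold b3 Tab.seg4_3
  have b5 := segOK_spec model Tab.reps.get allHold b4 Tab.seg4_4
  have b6 := segOK_spec model Tab.reps.get allHold b5 Tab.seg4_5
  have b7 := segOK_spec model Tab.reps.get allHold b6 Tab.seg4_6
  have b8 := segOK_spec model Tab.reps.get allHold b7 Tab.seg4_7
  have b9 := segOK_spec model Tab.reps.get allHold b8 Tab.seg4_8
  have b10 := segOK_spec model Tab.reps.get allHold b9 Tab.seg4_9
  have b11 := segOK_spec model Tab.reps.get allHold b10 Tab.seg4_10
  have b12 := segOK_spec model Tab.reps.get allHold b11 Tab.seg4_11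
  have b13 := segOK_spec model Tab.reps.get allHold b12 Tab.seg4_12
  have b14 := segOK_spec model Tab.reps.get allHold b13 Tab.seg4_13
  have b15 := segOK_spec model Tab.reps.get allHold b14 Tab.seg4_14
  have b16 := segOK_spec model Tab.reps.get allHold b15 Tab.seg4_15
  exact good_of_bits model Tab.reps.get b16 Tab.full4 cover

theorem good5 : ∀ x, model.Ok x → Good model bigM Tab.cert liveJ 5 x := by
  have b0 := bitsGood_zero (live := liveJ) (L := bigM) (D := Tab.cert) model Tab.reps.get 5
  have b1 := segOK_spec model Tab.reps.get allHold b0 Tab.seg5_0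
  have b2 := segOK_spec model Tab.reps.get allHold b1 Tab.seg5_1
  have b3 := segOK_spec model Tab.reps.get allHold b2 Tab.seg5_2
  have b4 := segOK_spec model Tab.reps.get allHold b3 Tab.seg5_3
  have b5 := segOK_spec model Tab.reps.get allHold b4 Tab.seg5_4
  have b6 := segOK_spec model Tab.reps.get allHold b5 Tab.seg5_5
  have b7 := segOK_spec model Tab.reps.get allHold b6 Tab.seg5_6
  have b8 := segOK_spec model Tab.reps.get allHold b7 Tab.seg5_7
  have b9 := segOK_spec model Tab.reps.get allHold b8 Tab.seg5_8
  have b10 := segOK_spec model Tab.reps.get allHold b9 Tab.seg5_9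
  have b11 := segOK_spec model Tab.reps.get allHold b10 Tab.seg5_10
  have b12 := segOK_spec model Tab.reps.get allHold b11 Tab.seg5_11
  have b13 := segOK_spec model Tab.reps.get allHold b12 Tab.seg5_12
  have b14 := segOK_spec model Tab.reps.get allHold b13 Tab.seg5_13
  have b15 := segOK_spec model Tab.reps.get allHold b14 Tab.seg5_14
  have b16 := segOK_spec model Tab.reps.get allHold b15 Tab.seg5_15
  exact good_of_bits model Tab.reps.get b16 Tab.full5 cover

theorem good6 : ∀ x, model.Ok x → Good model bigM Tab.cert liveJ 6 x := by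
  have b0 := bitsGood_zero (live := liveJ) (L := bigM) (D := Tab.cert) model Tab.reps.get 6
  have b1 := segOK_spec model Tab.reps.get allHold b0 Tab.seg6_0
  have b2 := segOK_spec model Tab.reps.get allHold b1 Tab.seg6_1
  have b3 := segOK_spec model Tab.reps.get allHold b2 Tab.seg6_2
  have b4 := segOK_spec model Tab.reps.get allHold b3 Tab.seg6_3
  have b5 := segOK_spec model Tab.reps.get allHold b4 Tab.seg6_4
  have b6 := segOK_spec model Tab.reps.get allHold b5 Tab.seg6_5
  have b7 := segOK_spec model Tab.reps.get allHold b6 Tab.seg6_6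
  have b8 := segOK_spec model Tab.reps.get allHold b7 Tab.seg6_7
  have b9 := segOK_spec model Tab.reps.get allHold b8 Tab.seg6_8
  have b10 := segOK_spec model Tab.reps.get allHold b9 Tab.seg6_9
  have b11 := segOK_spec model Tab.reps.get allHold b10 Tab.seg6_10
  have b12 := segOK_spec model Tab.reps.get allHold b11 Tab.seg6_11
  have b13 := segOK_spec model Tab.reps.get allHold b12 Tab.seg6_12
  have b14 := segOK_spec model Tab.reps.get allHold b13 Tab.seg6_13
  have b15 := segOK_spec model Tab.reps.get allHold b14 Tab.seg6_14
  have b16 := segOK_spec model Tab.reps.get allHold b15 Tab.seg6_15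
  exact good_of_bits model Tab.reps.get b16 Tab.full6 cover

theorem good7 : ∀ x, model.Ok x → Good model bigM Tab.cert liveJ 7 x := by
  have b0 := bitsGood_zero (live := liveJ) (L := bigM) (D := Tab.cert) model Tab.reps.get 7
  have b1 := segOK_spec model Tab.reps.get allHold b0 Tab.seg7_0
  have b2 := segOK_spec model Tab.reps.get allHold b1 Tab.seg7_1
  have b3 := segOK_spec model Tab.reps.get allHold b2 Tab.seg7_2
  have b4 := segOK_spec model Tab.reps.get allHold b3 Tab.seg7_3
  have b5 := segOK_spec model Tab.reps.get allHold b4 Tab.seg7_4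
  have b6 := segOK_spec model Tab.reps.get allHold b5 Tab.seg7_5
  have b7 := segOK_spec model Tab.reps.get allHold b6 Tab.seg7_6
  have b8 := segOK_spec model Tab.reps.get allHold b7 Tab.seg7_7
  have b9 := segOK_spec model Tab.reps.get allHold b8 Tab.seg7_8
  have b10 := segOK_spec model Tab.reps.get allHold b9 Tab.seg7_9
  have b11 := segOK_spec model Tab.reps.get allHold b10 Tab.seg7_10
  have b12 := segOK_spec model Tab.reps.get allHold b11 Tab.seg7_11
  have b13 := segOK_spec model Tab.reps.get allHold b12 Tab.seg7_12
  have b14 := segOK_spec model Tab.reps.get allHold b13 Tab.seg7_13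
  have b15 := segOK_spec model Tab.reps.get allHold b14 Tab.seg7_14
  have b16 := segOK_spec model Tab.reps.get allHold b15 Tab.seg7_15
  exact good_of_bits model Tab.reps.get b16 Tab.full7 cover

theorem good8 : ∀ x, model.Ok x → Good model bigM Tab.cert liveJ 8 x := by
  have b0 := bitsGood_zero (live := liveJ) (L := bigM) (D := Tab.cert) model Tab.reps.get 8
  have b1 := segOK_spec model Tab.reps.get allHold b0 Tab.seg8_0
  have b2 := segOK_spec model Tab.reps.get allHold b1 Tab.seg8_1
  have b3 := segOK_spec model Tab.reps.get allHold b2 Tab.seg8_2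
  have b4 := segOK_spec model Tab.reps.get allHold b3 Tab.seg8_3
  have b5 := segOK_spec model Tab.reps.get allHold b4 Tab.seg8_4
  have b6 := segOK_spec model Tab.reps.get allHold b5 Tab.seg8_5
  have b7 := segOK_spec model Tab.reps.get allHold b6 Tab.seg8_6
  have b8 := segOK_spec model Tab.reps.get allHold b7 Tab.seg8_7
  have b9 := segOK_spec model Tab.reps.get allHold b8 Tab.seg8_8
  have b10 := segOK_spec model Tab.reps.get allHold b9 Tab.seg8_9
  have b11 := segOK_spec model Tab.reps.get allHold b10 Tab.seg8_10
  have b12 := segOK_spec model Tab.reps.get allHold b11 Tab.seg8_11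
  have b13 := segOK_spec model Tab.reps.get allHold b12 Tab.seg8_12
  have b14 := segOK_spec model Tab.reps.get allHold b13 Tab.seg8_13
  have b15 := segOK_spec model Tab.reps.get allHold b14 Tab.seg8_14
  have b16 := segOK_spec model Tab.reps.get allHold b15 Tab.seg8_15
  exact good_of_bits model Tab.reps.get b16 Tab.full8 cover

theorem good9 : ∀ x, model.Ok x → Good model bigM Tab.cert liveJ 9 x := by
  have b0 := bitsGood_zero (live := liveJ) (L := bigM) (D := Tab.cert) model Tab.reps.get 9
  have b1 := segOK_spec model Tab.reps.get allHold b0 Tab.seg9_0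
  have b2 := segOK_spec model Tab.reps.get allHold b1 Tab.seg9_1
  have b3 := segOK_spec model Tab.reps.get allHold b2 Tab.seg9_2
  have b4 := segOK_spec model Tab.reps.get allHold b3 Tab.seg9_3
  have b5 := segOK_spec model Tab.reps.get allHold b4 Tab.seg9_4
  have b6 := segOK_spec model Tab.reps.get allHold b5 Tab.seg9_5
  have b7 := segOK_spec model Tab.reps.get allHold b6 Tab.seg9_6
  have b8 := segOK_spec model Tab.reps.get allHold b7 Tab.seg9_7
  have b9 := segOK_spec model Tab.reps.get allHold b8 Tab.seg9_8
  have b10 := segOK_spec model Tab.reps.get allHold b9 Tab.seg9_9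
  have b11 := segOK_spec model Tab.reps.get allHold b10 Tab.seg9_10
  have b12 := segOK_spec model Tab.reps.get allHold b11 Tab.seg9_11
  have b13 := segOK_spec model Tab.reps.get allHold b12 Tab.seg9_12
  have b14 := segOK_spec model Tab.reps.get allHold b13 Tab.seg9_13
  have b15 := segOK_spec model Tab.reps.get allHold b14 Tab.seg9_14
  have b16 := segOK_spec model Tab.reps.get allHold b15 Tab.seg9_15
  exact good_of_bits model Tab.reps.get b16 Tab.full9 cover

theorem good10 : ∀ x, model.Ok x → Good model bigM Tab.cert liveJ 10 x := by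
  have b0 := bitsGood_zero (live := liveJ) (L := bigM) (D := Tab.cert) model Tab.reps.get 10
  have b1 := segOK_spec model Tab.reps.get allHold b0 Tab.seg10_0
  have b2 := segOK_spec model Tab.reps.get allHold b1 Tab.seg10_1
  have b3 := segOK_spec model Tab.reps.get allHold b2 Tab.seg10_2
  have b4 := segOK_spec model Tab.reps.get allHold b3 Tab.seg10_3
  have b5 := segOK_spec model Tab.reps.get allHold b4 Tab.seg10_4
  have b6 := segOK_spec model Tab.reps.get allHold b5 Tab.seg10_5
  have b7 := segOK_spec model Tab.reps.get allHold b6 Tab.seg10_6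
  have b8 := segOK_spec model Tab.reps.get allHold b7 Tab.seg10_7
  have b9 := segOK_spec model Tab.reps.get allHold b8 Tab.seg10_8
  have b10 := segOK_spec model Tab.reps.get allHold b9 Tab.seg10_9
  have b11 := segOK_spec model Tab.reps.get allHold b10 Tab.seg10_10
  have b12 := segOK_spec model Tab.reps.get allHold b11 Tab.seg10_11
  have b13 := segOK_spec model Tab.reps.get allHold b12 Tab.seg10_12
  have b14 := segOK_spec model Tab.reps.get allHold b13 Tab.seg10_13
  have b15 := segOK_spec model Tab.reps.get allHold b14 Tab.seg10_14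
  have b16 := segOK_spec model Tab.reps.get allHold b15 Tab.seg10_15
  exact good_of_bits model Tab.reps.get b16 Tab.full10 cover

theorem good11 : ∀ x, model.Ok x → Good model bigM Tab.cert liveJ 11 x := by
  have b0 := bitsGood_zero (live := liveJ) (L := bigM) (D := Tab.cert) model Tab.reps.get 11
  have b1 := segOK_spec model Tab.reps.get allHold b0 Tab.seg11_0
  have b2 := segOK_spec model Tab.reps.get allHold b1 Tab.seg11_1
  have b3 := segOK_spec model Tab.reps.get allHold b2 Tab.seg11_2
  have b4 := segOK_spec model Tab.reps.get allHold b3 Tab.seg11_3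
  have b5 := segOK_spec model Tab.reps.get allHold b4 Tab.seg11_4
  have b6 := segOK_spec model Tab.reps.get allHold b5 Tab.seg11_5
  have b7 := segOK_spec model Tab.reps.get allHold b6 Tab.seg11_6
  have b8 := segOK_spec model Tab.reps.get allHold b7 Tab.seg11_7
  have b9 := segOK_spec model Tab.reps.get allHold b8 Tab.seg11_8
  have b10 := segOK_spec model Tab.reps.get allHold b9 Tab.seg11_9
  have b11 := segOK_spec model Tab.reps.get allHold b10 Tab.seg11_10
  have b12 := segOK_spec model Tab.reps.get allHold b11 Tab.seg11_11
  have b13 := segOK_spec model Tab.reps.get allHold b12 Tab.seg11_12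
  have b14 := segOK_spec model Tab.reps.get allHold b13 Tab.seg11_13
  have b15 := segOK_spec model Tab.reps.get allHold b14 Tab.seg11_14
  have b16 := segOK_spec model Tab.reps.get allHold b15 Tab.seg11_15
  exact good_of_bits model Tab.reps.get b16 Tab.full11 cover

theorem good12 : ∀ x, model.Ok x → Good model bigM Tab.cert liveJ 12 x := by
  have b0 := bitsGood_zero (live := liveJ) (L := bigM) (D := Tab.cert) model Tab.reps.get 12
  have b1 := segOK_spec model Tab.reps.get allHold b0 Tab.seg12_0
  have b2 := segOK_spec model Tab.reps.get allHold b1 Tab.seg12_1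
  have b3 := segOK_spec model Tab.reps.get allHold b2 Tab.seg12_2
  have b4 := segOK_spec model Tab.reps.get allHold b3 Tab.seg12_3
  have b5 := segOK_spec model Tab.reps.get allHold b4 Tab.seg12_4
  have b6 := segOK_spec model Tab.reps.get allHold b5 Tab.seg12_5
  have b7 := segOK_spec model Tab.reps.get allHold b6 Tab.seg12_6
  have b8 := segOK_spec model Tab.reps.get allHold b7 Tab.seg12_7
  have b9 := segOK_spec model Tab.reps.get allHold b8 Tab.seg12_8
  have b10 := segOK_spec model Tab.reps.get allHold b9 Tab.seg12_9
  have b11 := segOK_spec model Tab.reps.get allHold b10 Tab.seg12_10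
  have b12 := segOK_spec model Tab.reps.get allHold b11 Tab.seg12_11
  have b13 := segOK_spec model Tab.reps.get allHold b12 Tab.seg12_12
  have b14 := segOK_spec model Tab.reps.get allHold b13 Tab.seg12_13
  have b15 := segOK_spec model Tab.reps.get allHold b14 Tab.seg12_14
  have b16 := segOK_spec model Tab.reps.get allHold b15 Tab.seg12_15
  exact good_of_bits model Tab.reps.get b16 Tab.full12 cover

theorem good13 : ∀ x, model.Ok x → Good model bigM Tab.cert liveJ 13 x := by
  have b0 := bitsGood_zero (live := liveJ) (L := bigM) (D := Tab.cert) model Tab.reps.get 13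
  have b1 := segOK_spec model Tab.reps.get allHold b0 Tab.seg13_0
  have b2 := segOK_spec model Tab.reps.get allHold b1 Tab.seg13_1
  have b3 := segOK_spec model Tab.reps.get allHold b2 Tab.seg13_2
  have b4 := segOK_spec model Tab.reps.get allHold b3 Tab.seg13_3
  have b5 := segOK_spec model Tab.reps.get allHold b4 Tab.seg13_4
  have b6 := segOK_spec model Tab.reps.get allHold b5 Tab.seg13_5
  have b7 := segOK_spec model Tab.reps.get allHold b6 Tab.seg13_6
  have b8 := segOK_spec model Tab.reps.get allHold b7 Tab.seg13_7
  have b9 := segOK_spec model Tab.reps.get allHold b8 Tab.seg13_8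
  have b10 := segOK_spec model Tab.reps.get allHold b9 Tab.seg13_9
  have b11 := segOK_spec model Tab.reps.get allHold b10 Tab.seg13_10
  have b12 := segOK_spec model Tab.reps.get allHold b11 Tab.seg13_11
  have b13 := segOK_spec model Tab.reps.get allHold b12 Tab.seg13_12
  have b14 := segOK_spec model Tab.reps.get allHold b13 Tab.seg13_13
  have b15 := segOK_spec model Tab.reps.get allHold b14 Tab.seg13_14
  have b16 := segOK_spec model Tab.reps.get allHold b15 Tab.seg13_15
  exact good_of_bits model Tab.reps.get b16 Tab.full13 cover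

theorem good14 : ∀ x, model.Ok x → Good model bigM Tab.cert liveJ 14 x := by
  have b0 := bitsGood_zero (live := liveJ) (L := bigM) (D := Tab.cert) model Tab.reps.get 14
  have b1 := segOK_spec model Tab.reps.get allHold b0 Tab.seg14_0
  have b2 := segOK_spec model Tab.reps.get allHold b1 Tab.seg14_1
  have b3 := segOK_spec model Tab.reps.get allHold b2 Tab.seg14_2
  have b4 := segOK_spec model Tab.reps.get allHold b3 Tab.seg14_3
  have b5 := segOK_spec model Tab.reps.get allHold b4 Tab.seg14_4
  have b6 := segOK_spec model Tab.reps.get allHold b5 Tab.seg14_5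
  have b7 := segOK_spec model Tab.reps.get allHold b6 Tab.seg14_6
  have b8 := segOK_spec model Tab.reps.get allHold b7 Tab.seg14_7
  have b9 := segOK_spec model Tab.reps.get allHold b8 Tab.seg14_8
  have b10 := segOK_spec model Tab.reps.get allHold b9 Tab.seg14_9
  have b11 := segOK_spec model Tab.reps.get allHold b10 Tab.seg14_10
  have b12 := segOK_spec model Tab.reps.get allHold b11 Tab.seg14_11
  have b13 := segOK_spec model Tab.reps.get allHold b12 Tab.seg14_12
  have b14 := segOK_spec model Tab.reps.get allHold b13 Tab.seg14_13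
  have b15 := segOK_spec model Tab.reps.get allHold b14 Tab.seg14_14
  have b16 := segOK_spec model Tab.reps.get allHold b15 Tab.seg14_15
  exact good_of_bits model Tab.reps.get b16 Tab.full14 cover

theorem good15 : ∀ x, model.Ok x → Good model bigM Tab.cert liveJ 15 x := by
  have b0 := bitsGood_zero (live := liveJ) (L := bigM) (D := Tab.cert) model Tab.reps.get 15
  have b1 := segOK_spec model Tab.reps.get allHold b0 Tab.seg15_0
  have b2 := segOK_spec model Tab.reps.get allHold b1 Tab.seg15_1
  have b3 := segOK_spec model Tab.reps.get allHold b2 Tab.seg15_2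
  have b4 := segOK_spec model Tab.reps.get allHold b3 Tab.seg15_3
  have b5 := segOK_spec model Tab.reps.get allHold b4 Tab.seg15_4
  have b6 := segOK_spec model Tab.reps.get allHold b5 Tab.seg15_5
  have b7 := segOK_spec model Tab.reps.get allHold b6 Tab.seg15_6
  have b8 := segOK_spec model Tab.reps.get allHold b7 Tab.seg15_7
  have b9 := segOK_spec model Tab.reps.get allHold b8 Tab.seg15_8
  have b10 := segOK_spec model Tab.reps.get allHold b9 Tab.seg15_9
  have b11 := segOK_spec model Tab.reps.get allHold b10 Tab.seg15_10
  have b12 := segOK_spec model Tab.reps.get allHold b11 Tab.seg15_11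
  have b13 := segOK_spec model Tab.reps.get allHold b12 Tab.seg15_12
  have b14 := segOK_spec model Tab.reps.get allHold b13 Tab.seg15_13
  have b15 := segOK_spec model Tab.reps.get allHold b14 Tab.seg15_14
  have b16 := segOK_spec model Tab.reps.get allHold b15 Tab.seg15_15
  exact good_of_bits model Tab.reps.get b16 Tab.full15 cover

theorem good16 : ∀ x, model.Ok x → Good model bigM Tab.cert liveJ 16 x := by
  have b0 := bitsGood_zero (live := liveJ) (L := bigM) (D := Tab.cert) model Tab.reps.get 16
  have b1 := segOK_spec model Tab.reps.get allHold b0 Tab.seg16_0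
  have b2 := segOK_spec model Tab.reps.get allHold b1 Tab.seg16_1
  have b3 := segOK_spec model Tab.reps.get allHold b2 Tab.seg16_2
  have b4 := segOK_spec model Tab.reps.get allHold b3 Tab.seg16_3
  have b5 := segOK_spec model Tab.reps.get allHold b4 Tab.seg16_4
  have b6 := segOK_spec model Tab.reps.get allHold b5 Tab.seg16_5
  have b7 := segOK_spec model Tab.reps.get allHold b6 Tab.seg16_6
  have b8 := segOK_spec model Tab.reps.get allHold b7 Tab.seg16_7
  have b9 := segOK_spec model Tab.reps.get allHold b8 Tab.seg16_8
  have b10 := segOK_spec model Tab.reps.get allHold b9 Tab.seg16_9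
  have b11 := segOK_spec model Tab.reps.get allHold b10 Tab.seg16_10
  have b12 := segOK_spec model Tab.reps.get allHold b11 Tab.seg16_11
  have b13 := segOK_spec model Tab.reps.get allHold b12 Tab.seg16_12
  have b14 := segOK_spec model Tab.reps.get allHold b13 Tab.seg16_13
  have b15 := segOK_spec model Tab.reps.get allHold b14 Tab.seg16_14
  have b16 := segOK_spec model Tab.reps.get allHold b15 Tab.seg16_15
  exact good_of_bits model Tab.reps.get b16 Tab.full16 cover

theorem good17 : ∀ x, model.Ok x → Good model bigM Tab.cert liveJ 17 x := by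
  have b0 := bitsGood_zero (live := liveJ) (L := bigM) (D := Tab.cert) model Tab.reps.get 17
  have b1 := segOK_spec model Tab.reps.get allHold b0 Tab.seg17_0
  have b2 := segOK_spec model Tab.reps.get allHold b1 Tab.seg17_1
  have b3 := segOK_spec model Tab.reps.get allHold b2 Tab.seg17_2
  have b4 := segOK_spec model Tab.reps.get allHold b3 Tab.seg17_3
  have b5 := segOK_spec model Tab.reps.get allHold b4 Tab.seg17_4
  have b6 := segOK_spec model Tab.reps.get allHold b5 Tab.seg17_5
  have b7 := segOK_spec model Tab.reps.get allHold b6 Tab.seg17_6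
  have b8 := segOK_spec model Tab.reps.get allHold b7 Tab.seg17_7
  have b9 := segOK_spec model Tab.reps.get allHold b8 Tab.seg17_8
  have b10 := segOK_spec model Tab.reps.get allHold b9 Tab.seg17_9
  have b11 := segOK_spec model Tab.reps.get allHold b10 Tab.seg17_10
  have b12 := segOK_spec model Tab.reps.get allHold b11 Tab.seg17_11
  have b13 := segOK_spec model Tab.reps.get allHold b12 Tab.seg17_12
  have b14 := segOK_spec model Tab.reps.get allHold b13 Tab.seg17_13
  have b15 := segOK_spec model Tab.reps.get allHold b14 Tab.seg17_14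
  have b16 := segOK_spec model Tab.reps.get allHold b15 Tab.seg17_15
  exact good_of_bits model Tab.reps.get b16 Tab.full17 cover

theorem good18 : ∀ x, model.Ok x → Good model bigM Tab.cert liveJ 18 x := by
  have b0 := bitsGood_zero (live := liveJ) (L := bigM) (D := Tab.cert) model Tab.reps.get 18
  have b1 := segOK_spec model Tab.reps.get allHold b0 Tab.seg18_0
  have b2 := segOK_spec model Tab.reps.get allHold b1 Tab.seg18_1
  have b3 := segOK_spec model Tab.reps.get allHold b2 Tab.seg18_2
  have b4 := segOK_spec model Tab.reps.get allHold b3 Tab.seg18_3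
  have b5 := segOK_spec model Tab.reps.get allHold b4 Tab.seg18_4
  have b6 := segOK_spec model Tab.reps.get allHold b5 Tab.seg18_5
  have b7 := segOK_spec model Tab.reps.get allHold b6 Tab.seg18_6
  have b8 := segOK_spec model Tab.reps.get allHold b7 Tab.seg18_7
  have b9 := segOK_spec model Tab.reps.get allHold b8 Tab.seg18_8
  have b10 := segOK_spec model Tab.reps.get allHold b9 Tab.seg18_9
  have b11 := segOK_spec model Tab.reps.get allHold b10 Tab.seg18_10
  have b12 := segOK_spec model Tab.reps.get allHold b11 Tab.seg18_11
  have b13 := segOK_spec model Tab.reps.get allHold b12 Tab.seg18_12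
  have b14 := segOK_spec model Tab.reps.get allHold b13 Tab.seg18_13
  have b15 := segOK_spec model Tab.reps.get allHold b14 Tab.seg18_14
  have b16 := segOK_spec model Tab.reps.get allHold b15 Tab.seg18_15
  exact good_of_bits model Tab.reps.get b16 Tab.full18 cover

theorem good19 : ∀ x, model.Ok x → Good model bigM Tab.cert liveJ 19 x := by
  have b0 := bitsGood_zero (live := liveJ) (L := bigM) (D := Tab.cert) model Tab.reps.get 19
  have b1 := segOK_spec model Tab.reps.get allHold b0 Tab.seg19_0
  have b2 := segOK_spec model Tab.reps.get allHold b1 Tab.seg19_1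
  have b3 := segOK_spec model Tab.reps.get allHold b2 Tab.seg19_2
  have b4 := segOK_spec model Tab.reps.get allHold b3 Tab.seg19_3
  have b5 := segOK_spec model Tab.reps.get allHold b4 Tab.seg19_4
  have b6 := segOK_spec model Tab.reps.get allHold b5 Tab.seg19_5
  have b7 := segOK_spec model Tab.reps.get allHold b6 Tab.seg19_6
  have b8 := segOK_spec model Tab.reps.get allHold b7 Tab.seg19_7
  have b9 := segOK_spec model Tab.reps.get allHold b8 Tab.seg19_8
  have b10 := segOK_spec model Tab.reps.get allHold b9 Tab.seg19_9
  have b11 := segOK_spec model Tab.reps.get allHold b10 Tab.seg19_10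
  have b12 := segOK_spec model Tab.reps.get allHold b11 Tab.seg19_11
  have b13 := segOK_spec model Tab.reps.get allHold b12 Tab.seg19_12
  have b14 := segOK_spec model Tab.reps.get allHold b13 Tab.seg19_13
  have b15 := segOK_spec model Tab.reps.get allHold b14 Tab.seg19_14
  have b16 := segOK_spec model Tab.reps.get allHold b15 Tab.seg19_15
  exact good_of_bits model Tab.reps.get b16 Tab.full19 cover

theorem finite_P : Finite P := Finite.of_equiv _ equivM24.toEquiv.symm

attribute [local instance] finite_P

/-- images of points -/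
noncomputable def points : Points model where
  img n p := if p < 24 then get n p else p
  mul x y p := by
    by_cases hp : p < 24
    · simp only [if_pos hp]
      have e : ∀ z, model.enc z = encPerm (J4M24.phi z : Equiv.Perm GolayPt) := fun z => by
        show encP z = _
        unfold encP; rfl
      simp only [e]
      rw [map_mul, Subgroup.coe_mul, get_encPerm _ hp, get_encPerm _ hp,
        if_pos (ptFun_lt _ _), get_encPerm _ (ptFun_lt _ _)]
      simp [ptFun, Mathieu.i2p_p2i]
    · simp [if_neg hp]
  one p := by
    by_cases hp : p < 24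
    · simp only [if_pos hp]
      show get (encP 1) p = p
      unfold encP
      rw [map_one, OneMemClass.coe_one, get_encPerm _ hp]
      simp [ptFun, Mathieu.p2i_i2p p hp]
    · simp [if_neg hp]

/-- lower bounds for the stabilisers -/
def kLow (a : ℕ) : ℕ := [244823040, 64512, 768, 48, 192, 128, 3, 16, 6, 253, 20, 512, 9216, 21504, 96, 96, 32, 1152, 4608, 138240].getD a 1

theorem levels_congr {a : ℕ} : ∀ (lv : List (ℕ × List ℕ)) (fx : List ℕ),
    (lv.all fun e => Nat.blt e.1 24) = true → (∀ p ∈ fx, p < 24) →
    levelsOK get opsJ Tab.cert 5626 a fx lv = true →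
    levelsOK points.img opsJ Tab.cert 5626 a fx lv = true
  | [], _, _, _, _ => rfl
  | (b, is) :: rest, fx, hb, hfx, h => by
    simp only [List.all_cons, Bool.and_eq_true, Nat.blt, Nat.ble_eq] at hb
    simp only [levelsOK, Bool.and_eq_true] at h ⊢
    refine ⟨?_, levels_congr rest (b :: fx) (by simpa [Nat.blt, Nat.ble_eq] using hb.2) ?_ h.2⟩
    · suffices key : ∀ (is seen : List ℕ), levelOK get opsJ Tab.cert _ a fx b is seen =
          levelOK points.img opsJ Tab.cert _ a fx b is seen by rw [← key]; exact h.1
      intro is
      induction is with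
      | nil => intro _; rfl
      | cons i is ih =>
        intro seen
        have hp : ∀ z, points.img z b = get z b := fun z => if_pos hb.1
        have hall : ∀ z, (fx.all fun p => Nat.beq (points.img z p) p) =
            fx.all fun p => Nat.beq (get z p) p := by
          intro z
          refine Bool.eq_iff_iff.2 ?_
          simp only [List.all_eq_true]
          refine forall_congr' fun p => imp_congr_right fun hp' => ?_
          rw [show points.img z p = get z p from if_pos (hfx p hp')]
        simp only [levelOK, hp, hall, ih]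
    · intro p hp
      rcases List.mem_cons.1 hp with rfl | hp
      · exact hb.1
      · exact hfx p hp

theorem low0 : 244823040 ≤ Nat.card (stab model bigM Tab.cert 0) := by
  rw [← Tab.node0_prod]
  exact le_card_stab model points allHold (levels_congr Tab.lv0 [] (by decide +kernel) (by simp) Tab.node0_levels)

theorem low1 : 64512 ≤ Nat.card (stab model bigM Tab.cert 1) := by
  rw [← Tab.node1_prod]
  exact le_card_stab model points allHold (levels_congr Tab.lv1 [] (by decide +kernel) (by simp) Tab.node1_levels)

theorem low2 : 768 ≤ Nat.card (stab model bigM Tab.cert 2) := by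
  rw [← Tab.node2_prod]
  exact le_card_stab model points allHold (levels_congr Tab.lv2 [] (by decide +kernel) (by simp) Tab.node2_levels)

theorem low3 : 48 ≤ Nat.card (stab model bigM Tab.cert 3) := by
  rw [← Tab.node3_prod]
  exact le_card_stab model points allHold (levels_congr Tab.lv3 [] (by decide +kernel) (by simp) Tab.node3_levels)

theorem low4 : 192 ≤ Nat.card (stab model bigM Tab.cert 4) := by
  rw [← Tab.node4_prod]
  exact le_card_stab model points allHold (levels_congr Tab.lv4 [] (by decide +kernel) (by simp) Tab.node4_levels)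

theorem low5 : 128 ≤ Nat.card (stab model bigM Tab.cert 5) := by
  rw [← Tab.node5_prod]
  exact le_card_stab model points allHold (levels_congr Tab.lv5 [] (by decide +kernel) (by simp) Tab.node5_levels)

theorem low6 : 3 ≤ Nat.card (stab model bigM Tab.cert 6) := by
  rw [← Tab.node6_prod]
  exact le_card_stab model points allHold (levels_congr Tab.lv6 [] (by decide +kernel) (by simp) Tab.node6_levels)

theorem low7 : 16 ≤ Nat.card (stab model bigM Tab.cert 7) := by
  rw [← Tab.node7_prod]
  exact le_card_stab model points allHold (levels_congr Tab.lv7 [] (by decide +kernel) (by simp) Tab.node7_levels)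

theorem low8 : 6 ≤ Nat.card (stab model bigM Tab.cert 8) := by
  rw [← Tab.node8_prod]
  exact le_card_stab model points allHold (levels_congr Tab.lv8 [] (by decide +kernel) (by simp) Tab.node8_levels)

theorem low9 : 253 ≤ Nat.card (stab model bigM Tab.cert 9) := by
  rw [← Tab.node9_prod]
  exact le_card_stab model points allHold (levels_congr Tab.lv9 [] (by decide +kernel) (by simp) Tab.node9_levels)

theorem low10 : 20 ≤ Nat.card (stab model bigM Tab.cert 10) := by
  rw [← Tab.node10_prod]
  exact le_card_stab model points allHold (levels_congr Tab.lv10 [] (by decide +kernel) (by simp) Tab.node10_levels)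

theorem low11 : 512 ≤ Nat.card (stab model bigM Tab.cert 11) := by
  rw [← Tab.node11_prod]
  exact le_card_stab model points allHold (levels_congr Tab.lv11 [] (by decide +kernel) (by simp) Tab.node11_levels)

theorem low12 : 9216 ≤ Nat.card (stab model bigM Tab.cert 12) := by
  rw [← Tab.node12_prod]
  exact le_card_stab model points allHold (levels_congr Tab.lv12 [] (by decide +kernel) (by simp) Tab.node12_levels)

theorem low13 : 21504 ≤ Nat.card (stab model bigM Tab.cert 13) := by
  rw [← Tab.node13_prod]
  exact le_card_stab model points allHold (levels_congr Tab.lv13 [] (by decide +kernel) (by simp) Tab.node13_levels)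

theorem low14 : 96 ≤ Nat.card (stab model bigM Tab.cert 14) := by
  rw [← Tab.node14_prod]
  exact le_card_stab model points allHold (levels_congr Tab.lv14 [] (by decide +kernel) (by simp) Tab.node14_levels)

theorem low15 : 96 ≤ Nat.card (stab model bigM Tab.cert 15) := by
  rw [← Tab.node15_prod]
  exact le_card_stab model points allHold (levels_congr Tab.lv15 [] (by decide +kernel) (by simp) Tab.node15_levels)

theorem low16 : 32 ≤ Nat.card (stab model bigM Tab.cert 16) := by
  rw [← Tab.node16_prod]
  exact le_card_stab model points allHold (levels_congr Tab.lv16 [] (by decide +kernel) (by simp) Tab.node16_levels)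

theorem low17 : 1152 ≤ Nat.card (stab model bigM Tab.cert 17) := by
  rw [← Tab.node17_prod]
  exact le_card_stab model points allHold (levels_congr Tab.lv17 [] (by decide +kernel) (by simp) Tab.node17_levels)

theorem low18 : 4608 ≤ Nat.card (stab model bigM Tab.cert 18) := by
  rw [← Tab.node18_prod]
  exact le_card_stab model points allHold (levels_congr Tab.lv18 [] (by decide +kernel) (by simp) Tab.node18_levels)

theorem low19 : 138240 ≤ Nat.card (stab model bigM Tab.cert 19) := by
  rw [← Tab.node19_prod]
  exact le_card_stab model points allHold (levels_congr Tab.lv19 [] (by decide +kernel) (by simp) Tab.node19_levels)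

theorem hlow : ∀ a ∈ liveJ, kLow a ≤ Nat.card (stab model bigM Tab.cert a) ∧ 0 < kLow a := by
  intro a ha
  simp only [liveJ, List.mem_cons, List.not_mem_nil, or_false] at ha
  rcases ha with rfl | rfl | rfl | rfl | rfl | rfl | rfl | rfl | rfl | rfl | rfl | rfl | rfl | rfl | rfl | rfl | rfl | rfl | rfl | rfl
  exacts [⟨low0, by decide⟩, ⟨low1, by decide⟩, ⟨low2, by decide⟩, ⟨low3, by decide⟩, ⟨low4, by decide⟩, ⟨low5, by decide⟩, ⟨low6, by decide⟩, ⟨low7, by decide⟩, ⟨low8, by decide⟩, ⟨low9, by decide⟩, ⟨low10, by decide⟩, ⟨low11, by decide⟩, ⟨low12, by decide⟩, ⟨low13, by decide⟩, ⟨low14, by decide⟩, ⟨low15, by decide⟩, ⟨low16, by decide⟩, ⟨low17, by decide⟩, ⟨low18, by decide⟩, ⟨low19, by decide⟩]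

theorem hgood : ∀ a ∈ liveJ, ∀ x, model.Ok x → Good model bigM Tab.cert liveJ a x := by
  intro a ha
  simp only [liveJ, List.mem_cons, List.not_mem_nil, or_false] at ha
  rcases ha with rfl | rfl | rfl | rfl | rfl | rfl | rfl | rfl | rfl | rfl | rfl | rfl | rfl | rfl | rfl | rfl | rfl | rfl | rfl | rfl
  exacts [good0, good1, good2, good3, good4, good5, good6, good7, good8, good9, good10, good11, good12, good13, good14, good15, good16, good17, good18, good19]

theorem generated : model.hom.range ⊔ Subgroup.closure {model.t} = ⊤ := by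
  rw [eq_top_iff, ← PresentedGroup.closure_range_of, Subgroup.closure_le]
  rintro _ ⟨a, rfl⟩
  cases a
  · exact Subgroup.mem_sup_left ⟨px, J4Local.incl_px⟩
  · exact Subgroup.mem_sup_left ⟨py, J4Local.incl_py⟩
  · exact Subgroup.mem_sup_right (Subgroup.subset_closure rfl)

theorem hall : ∀ w, Covered model bigM Tab.cert liveJ w :=
  covered_all model (by decide) generated hgood

theorem card_P : Nat.card P = 244823040 := by
  rw [Nat.card_congr equivM24.toEquiv, Mathieu.card_M24]

theorem index_le : bigM.FiniteIndex ∧ bigM.index ≤ 173067389 := by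
  haveI := finite_P
  obtain ⟨h1, h2⟩ := index_le_of_covered model hall hlow
  refine ⟨h1, h2.trans (le_of_eq ?_)⟩
  rw [card_P]
  decide +kernel

end CfsgLib.J4Index22
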