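import Cfsg.Agent.J4Index22.Closed
import Cfsg.Agent.J4Local.Model
import Cfsg.Agent.J4Local.FactsOK
import Cfsg.Agent.J4Local.MovesOK0
import Cfsg.Agent.J4Local.MovesOK1
import Cfsg.Agent.J4Local.MovesOK2
import Cfsg.Agent.J4Local.MovesOK3

/-!
The subgroup `<x, y, (y * w⁻¹ * t * w) ^ 3>` of the presented fourth Janko group has order at most
`2 ^ 11 * 244823040`.
-/

set_option autoImplicit false
set_option maxRecDepth 100000

namespace CfsgLib.J4Index22

open Cfsg CfsgLib.DCert22 CfsgLib.J4Local CfsgLib.J4M24

/-- the conjugator in the third generator -/
noncomputable def wP : P := (py * px) ^ 4 * py⁻¹ * px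

/-- the conjugator of the first long relator -/
noncomputable def gP : P := py * px * py⁻¹ * px * py * px * py⁻¹ * px

/-- the conjugator of the second long relator -/
noncomputable def pP : P := (px * py) ^ 3 * py * (px * py) ^ 6 * py

/-- the head of the second long relator -/
noncomputable def vP : P := (py * px * py * px * py * px * py) ^ 3

theorem val_enc' (g : P) : model.val (enc g) = incl g := model.val_enc g

theorem relA : (jy * ((incl gP)⁻¹ * jt * incl gP)) ^ 3 = 1 := by
  have h := relator_one (r := (Spor.J4.y * ((Spor.J4.y * Spor.J4.x * (Spor.J4.y⁻¹) * Spor.J4.x *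
      Spor.J4.y * Spor.J4.x * (Spor.J4.y⁻¹) * Spor.J4.x)⁻¹ * Spor.J4.t * (Spor.J4.y * Spor.J4.x *
      (Spor.J4.y⁻¹) * Spor.J4.x * Spor.J4.y * Spor.J4.x * (Spor.J4.y⁻¹) * Spor.J4.x))) ^ 3)
    (by simp [Spor.J4.extra])
  simp only [map_mul, map_inv, map_pow, FreeGroup.lift_apply_of] at h
  simp only [gP, map_mul, map_inv, incl_px, incl_py]
  exact h

theorem relB : (incl vP * jt * ((incl pP)⁻¹ * jt * incl pP)) ^ 2 = 1 := by
  have h := relator_one (r := (((Spor.J4.y * Spor.J4.x * Spor.J4.y * Spor.J4.x * Spor.J4.y *
      Spor.J4.x * Spor.J4.y) ^ 3) * Spor.J4.t * ((((Spor.J4.x * Spor.J4.y) ^ 3) * Spor.J4.y *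
      ((Spor.J4.x * Spor.J4.y) ^ 6) * Spor.J4.y)⁻¹ * Spor.J4.t * (((Spor.J4.x * Spor.J4.y) ^ 3) *
      Spor.J4.y * ((Spor.J4.x * Spor.J4.y) ^ 6) * Spor.J4.y))) ^ 2)
    (by simp [Spor.J4.extra])
  simp only [map_mul, map_inv, map_pow, FreeGroup.lift_apply_of] at h
  simp only [vP, pP, map_mul, map_inv, map_pow, incl_px, incl_py]
  exact h

theorem rels_eqLocal : Data.cert.rels =
    [(enc (gP * py * gP⁻¹), [enc (gP * py * gP⁻¹), enc (gP * py * gP⁻¹), enc 1]),
     (enc pP⁻¹, [enc (pP * vP), enc pP⁻¹, enc (pP * vP), enc 1]),
     (enc (pP * vP), [enc pP⁻¹, enc (pP * vP), enc pP⁻¹, enc 1])] := by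
  simp only [gP, pP, vP, pow_succ, pow_zero, one_mul, enc_mul, enc_inv, enc_px, enc_py, enc_one]
  decide +kernel

theorem subs_eqLocal : Data.cert.subs = [(enc px⁻¹, []), (enc py⁻¹, [])] := by
  simp only [enc_inv, enc_px, enc_py]
  decide +kernel

theorem gens_eq : Data.gens = [(enc px, []), (enc py, []),
    (enc (py * wP⁻¹), [enc (wP * (py * wP⁻¹)), enc (wP * (py * wP⁻¹)), enc wP])] := by
  simp only [wP, pow_succ, pow_zero, one_mul, enc_mul, enc_inv, enc_px, enc_py]
  decide +kernel

theorem rels_ok (w : ℕ × List ℕ) (hw : w ∈ Data.cert.rels) : model.wordVal w = 1 := by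
  rw [rels_eqLocal] at hw
  simp only [List.mem_cons, List.not_mem_nil, or_false] at hw
  have hA := relA
  have hB := relB
  have hmt : model.t = jt := rfl
  rcases hw with rfl | rfl | rfl <;>
    simp only [Model.wordVal, val_enc', hmt, List.map_cons, List.map_nil, List.prod_cons,
      List.prod_nil, map_mul, map_inv, map_one, incl_py, mul_one]
  · generalize incl gP = g at hA ⊢
    calc g * jy * g⁻¹ * (jt * (g * jy * g⁻¹) * (jt * (g * jy * g⁻¹) * jt))
        = g * ((jy * (g⁻¹ * jt * g)) ^ 3) * g⁻¹ := by simp only [pow_succ, pow_zero]; group
      _ = 1 := by rw [hA]; group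
  · generalize incl pP = p at hB ⊢
    generalize incl vP = v at hB ⊢
    calc p⁻¹ * (jt * (p * v) * (jt * p⁻¹ * (jt * (p * v) * jt)))
        = (v * jt)⁻¹ * ((v * jt * (p⁻¹ * jt * p)) ^ 2) * (v * jt) := by
          simp only [pow_two]; group
      _ = 1 := by rw [hB]; group
  · generalize incl pP = p at hB ⊢
    generalize incl vP = v at hB ⊢
    calc p * v * (jt * p⁻¹ * (jt * (p * v) * (jt * p⁻¹ * jt)))
        = p * ((v * jt * (p⁻¹ * jt * p)) ^ 2) * p⁻¹ := by simp only [pow_two]; group
      _ = 1 := by rw [hB]; group

theorem subs_ok (w : ℕ × List ℕ) (hw : w ∈ Data.cert.subs) : model.wordVal w ∈ incl.range := by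
  rw [subs_eqLocal] at hw
  simp only [List.mem_cons, List.not_mem_nil, or_false] at hw
  rcases hw with rfl | rfl <;> simp [Model.wordVal, val_enc']

theorem nodes_ok : ((List.range Data.cert.nodes.length).all fun k =>
    Nat.ble (Data.cert.nodes.getD k (0, 0)).1 k) = true := by decide +kernel

theorem certOKLocal : CertOK model incl.range Data.cert := by
  refine ⟨fun k a x h => ?_, fun i w h => rels_ok w (List.mem_of_getElem? h),
    fun i w h => subs_ok w (List.mem_of_getElem? h)⟩
  obtain ⟨hk, he⟩ := List.getElem?_eq_some_iff.1 h
  have h2 := List.all_eq_true.1 nodes_ok k (List.mem_range.2 hk)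
  rw [List.getD_eq_getElem _ _ hk, he] at h2
  exact Nat.le_of_ble_eq_true h2

theorem allHold_of_range {s : ℕ} : ∀ k, rangeOK code Data.cert s k = true →
    AllHold model incl.range Data.cert s → AllHold model incl.range Data.cert (s + k)
  | 0, _, h => h
  | k + 1, hr, h => by
    simp only [rangeOK, Bool.and_eq_true] at hr
    have ih := allHold_of_range k hr.1 h
    intro i hi f hf
    rcases Nat.lt_or_ge i (s + k) with hlt | hge
    · exact ih i hlt f hf
    · obtain rfl : i = s + k := by omega
      exact fact_spec model certOKLocal ih hr.2 f hf

theorem allHoldLocal : AllHold model incl.range Data.cert 1202 := by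
  have h0 : AllHold model incl.range Data.cert 0 := fun i hi => absurd hi (Nat.not_lt_zero i)
  have h1 : AllHold model incl.range Data.cert 64 := allHold_of_range (s := 0) 64 Checks.facts0 h0
  have h2 : AllHold model incl.range Data.cert 128 := allHold_of_range (s := 64) 64 Checks.facts1 h1
  have h3 : AllHold model incl.range Data.cert 192 := allHold_of_range (s := 128) 64 Checks.facts2 h2
  have h4 : AllHold model incl.range Data.cert 256 := allHold_of_range (s := 192) 64 Checks.facts3 h3
  have h5 : AllHold model incl.range Data.cert 320 := allHold_of_range (s := 256) 64 Checks.facts4 h4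
  have h6 : AllHold model incl.range Data.cert 384 := allHold_of_range (s := 320) 64 Checks.facts5 h5
  have h7 : AllHold model incl.range Data.cert 448 := allHold_of_range (s := 384) 64 Checks.facts6 h6
  have h8 : AllHold model incl.range Data.cert 512 := allHold_of_range (s := 448) 64 Checks.facts7 h7
  have h9 : AllHold model incl.range Data.cert 576 := allHold_of_range (s := 512) 64 Checks.facts8 h8
  have h10 : AllHold model incl.range Data.cert 640 := allHold_of_range (s := 576) 64 Checks.facts9 h9
  have h11 : AllHold model incl.range Data.cert 704 := allHold_of_range (s := 640) 64 Checks.facts10 h10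
  have h12 : AllHold model incl.range Data.cert 768 := allHold_of_range (s := 704) 64 Checks.facts11 h11
  have h13 : AllHold model incl.range Data.cert 832 := allHold_of_range (s := 768) 64 Checks.facts12 h12
  have h14 : AllHold model incl.range Data.cert 896 := allHold_of_range (s := 832) 64 Checks.facts13 h13
  have h15 : AllHold model incl.range Data.cert 960 := allHold_of_range (s := 896) 64 Checks.facts14 h14
  have h16 : AllHold model incl.range Data.cert 1024 := allHold_of_range (s := 960) 64 Checks.facts15 h15
  have h17 : AllHold model incl.range Data.cert 1088 := allHold_of_range (s := 1024) 64 Checks.facts16 h16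
  have h18 : AllHold model incl.range Data.cert 1152 := allHold_of_range (s := 1088) 64 Checks.facts17 h17
  have h19 : AllHold model incl.range Data.cert 1202 := allHold_of_range (s := 1152) 50 Checks.facts18 h18
  exact h19

theorem moves : ∀ i < 2048, Moves model incl.range Data.cert 2048 Data.states Data.gens i := by
  have m0 := closedOK_spec model allHoldLocal Data.mv0 0 Checks.moves0.1
  rw [Checks.moves0.2] at m0
  have m1 := closedOK_spec model allHoldLocal Data.mv1 32 Checks.moves1.1
  rw [Checks.moves1.2] at m1
  have m2 := closedOK_spec model allHoldLocal Data.mv2 64 Checks.moves2.1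
  rw [Checks.moves2.2] at m2
  have m3 := closedOK_spec model allHoldLocal Data.mv3 96 Checks.moves3.1
  rw [Checks.moves3.2] at m3
  have m4 := closedOK_spec model allHoldLocal Data.mv4 128 Checks.moves4.1
  rw [Checks.moves4.2] at m4
  have m5 := closedOK_spec model allHoldLocal Data.mv5 160 Checks.moves5.1
  rw [Checks.moves5.2] at m5
  have m6 := closedOK_spec model allHoldLocal Data.mv6 192 Checks.moves6.1
  rw [Checks.moves6.2] at m6
  have m7 := closedOK_spec model allHoldLocal Data.mv7 224 Checks.moves7.1
  rw [Checks.moves7.2] at m7
  have m8 := closedOK_spec model allHoldLocal Data.mv8 256 Checks.moves8.1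
  rw [Checks.moves8.2] at m8
  have m9 := closedOK_spec model allHoldLocal Data.mv9 288 Checks.moves9.1
  rw [Checks.moves9.2] at m9
  have m10 := closedOK_spec model allHoldLocal Data.mv10 320 Checks.moves10.1
  rw [Checks.moves10.2] at m10
  have m11 := closedOK_spec model allHoldLocal Data.mv11 352 Checks.moves11.1
  rw [Checks.moves11.2] at m11
  have m12 := closedOK_spec model allHoldLocal Data.mv12 384 Checks.moves12.1
  rw [Checks.moves12.2] at m12
  have m13 := closedOK_spec model allHoldLocal Data.mv13 416 Checks.moves13.1
  rw [Checks.moves13.2] at m13
  have m14 := closedOK_spec model allHoldLocal Data.mv14 448 Checks.moves14.1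
  rw [Checks.moves14.2] at m14
  have m15 := closedOK_spec model allHoldLocal Data.mv15 480 Checks.moves15.1
  rw [Checks.moves15.2] at m15
  have m16 := closedOK_spec model allHoldLocal Data.mv16 512 Checks.moves16.1
  rw [Checks.moves16.2] at m16
  have m17 := closedOK_spec model allHoldLocal Data.mv17 544 Checks.moves17.1
  rw [Checks.moves17.2] at m17
  have m18 := closedOK_spec model allHoldLocal Data.mv18 576 Checks.moves18.1
  rw [Checks.moves18.2] at m18
  have m19 := closedOK_spec model allHoldLocal Data.mv19 608 Checks.moves19.1
  rw [Checks.moves19.2] at m19
  have m20 := closedOK_spec model allHoldLocal Data.mv20 640 Checks.moves20.1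
  rw [Checks.moves20.2] at m20
  have m21 := closedOK_spec model allHoldLocal Data.mv21 672 Checks.moves21.1
  rw [Checks.moves21.2] at m21
  have m22 := closedOK_spec model allHoldLocal Data.mv22 704 Checks.moves22.1
  rw [Checks.moves22.2] at m22
  have m23 := closedOK_spec model allHoldLocal Data.mv23 736 Checks.moves23.1
  rw [Checks.moves23.2] at m23
  have m24 := closedOK_spec model allHoldLocal Data.mv24 768 Checks.moves24.1
  rw [Checks.moves24.2] at m24
  have m25 := closedOK_spec model allHoldLocal Data.mv25 800 Checks.moves25.1
  rw [Checks.moves25.2] at m25
  have m26 := closedOK_spec model allHoldLocal Data.mv26 832 Checks.moves26.1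
  rw [Checks.moves26.2] at m26
  have m27 := closedOK_spec model allHoldLocal Data.mv27 864 Checks.moves27.1
  rw [Checks.moves27.2] at m27
  have m28 := closedOK_spec model allHoldLocal Data.mv28 896 Checks.moves28.1
  rw [Checks.moves28.2] at m28
  have m29 := closedOK_spec model allHoldLocal Data.mv29 928 Checks.moves29.1
  rw [Checks.moves29.2] at m29
  have m30 := closedOK_spec model allHoldLocal Data.mv30 960 Checks.moves30.1
  rw [Checks.moves30.2] at m30
  have m31 := closedOK_spec model allHoldLocal Data.mv31 992 Checks.moves31.1
  rw [Checks.moves31.2] at m31
  have m32 := closedOK_spec model allHoldLocal Data.mv32 1024 Checks.moves32.1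
  rw [Checks.moves32.2] at m32
  have m33 := closedOK_spec model allHoldLocal Data.mv33 1056 Checks.moves33.1
  rw [Checks.moves33.2] at m33
  have m34 := closedOK_spec model allHoldLocal Data.mv34 1088 Checks.moves34.1
  rw [Checks.moves34.2] at m34
  have m35 := closedOK_spec model allHoldLocal Data.mv35 1120 Checks.moves35.1
  rw [Checks.moves35.2] at m35
  have m36 := closedOK_spec model allHoldLocal Data.mv36 1152 Checks.moves36.1
  rw [Checks.moves36.2] at m36
  have m37 := closedOK_spec model allHoldLocal Data.mv37 1184 Checks.moves37.1
  rw [Checks.moves37.2] at m37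
  have m38 := closedOK_spec model allHoldLocal Data.mv38 1216 Checks.moves38.1
  rw [Checks.moves38.2] at m38
  have m39 := closedOK_spec model allHoldLocal Data.mv39 1248 Checks.moves39.1
  rw [Checks.moves39.2] at m39
  have m40 := closedOK_spec model allHoldLocal Data.mv40 1280 Checks.moves40.1
  rw [Checks.moves40.2] at m40
  have m41 := closedOK_spec model allHoldLocal Data.mv41 1312 Checks.moves41.1
  rw [Checks.moves41.2] at m41
  have m42 := closedOK_spec model allHoldLocal Data.mv42 1344 Checks.moves42.1
  rw [Checks.moves42.2] at m42
  have m43 := closedOK_spec model allHoldLocal Data.mv43 1376 Checks.moves43.1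
  rw [Checks.moves43.2] at m43
  have m44 := closedOK_spec model allHoldLocal Data.mv44 1408 Checks.moves44.1
  rw [Checks.moves44.2] at m44
  have m45 := closedOK_spec model allHoldLocal Data.mv45 1440 Checks.moves45.1
  rw [Checks.moves45.2] at m45
  have m46 := closedOK_spec model allHoldLocal Data.mv46 1472 Checks.moves46.1
  rw [Checks.moves46.2] at m46
  have m47 := closedOK_spec model allHoldLocal Data.mv47 1504 Checks.moves47.1
  rw [Checks.moves47.2] at m47
  have m48 := closedOK_spec model allHoldLocal Data.mv48 1536 Checks.moves48.1
  rw [Checks.moves48.2] at m48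
  have m49 := closedOK_spec model allHoldLocal Data.mv49 1568 Checks.moves49.1
  rw [Checks.moves49.2] at m49
  have m50 := closedOK_spec model allHoldLocal Data.mv50 1600 Checks.moves50.1
  rw [Checks.moves50.2] at m50
  have m51 := closedOK_spec model allHoldLocal Data.mv51 1632 Checks.moves51.1
  rw [Checks.moves51.2] at m51
  have m52 := closedOK_spec model allHoldLocal Data.mv52 1664 Checks.moves52.1
  rw [Checks.moves52.2] at m52
  have m53 := closedOK_spec model allHoldLocal Data.mv53 1696 Checks.moves53.1
  rw [Checks.moves53.2] at m53
  have m54 := closedOK_spec model allHoldLocal Data.mv54 1728 Checks.moves54.1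
  rw [Checks.moves54.2] at m54
  have m55 := closedOK_spec model allHoldLocal Data.mv55 1760 Checks.moves55.1
  rw [Checks.moves55.2] at m55
  have m56 := closedOK_spec model allHoldLocal Data.mv56 1792 Checks.moves56.1
  rw [Checks.moves56.2] at m56
  have m57 := closedOK_spec model allHoldLocal Data.mv57 1824 Checks.moves57.1
  rw [Checks.moves57.2] at m57
  have m58 := closedOK_spec model allHoldLocal Data.mv58 1856 Checks.moves58.1
  rw [Checks.moves58.2] at m58
  have m59 := closedOK_spec model allHoldLocal Data.mv59 1888 Checks.moves59.1
  rw [Checks.moves59.2] at m59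
  have m60 := closedOK_spec model allHoldLocal Data.mv60 1920 Checks.moves60.1
  rw [Checks.moves60.2] at m60
  have m61 := closedOK_spec model allHoldLocal Data.mv61 1952 Checks.moves61.1
  rw [Checks.moves61.2] at m61
  have m62 := closedOK_spec model allHoldLocal Data.mv62 1984 Checks.moves62.1
  rw [Checks.moves62.2] at m62
  have m63 := closedOK_spec model allHoldLocal Data.mv63 2016 Checks.moves63.1
  rw [Checks.moves63.2] at m63
  intro i hi
  rcases Nat.lt_or_ge i 1024 with h | h
  ·
    rcases Nat.lt_or_ge i 512 with h | h
    ·
      rcases Nat.lt_or_ge i 256 with h | h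
      ·
        rcases Nat.lt_or_ge i 128 with h | h
        ·
          rcases Nat.lt_or_ge i 64 with h | h
          ·
            rcases Nat.lt_or_ge i 32 with h | h
            ·
              exact m0 i (by omega) (by omega)
            ·
              exact m1 i (by omega) (by omega)
          ·
            rcases Nat.lt_or_ge i 96 with h | h
            ·
              exact m2 i (by omega) (by omega)
            ·
              exact m3 i (by omega) (by omega)
        ·
          rcases Nat.lt_or_ge i 192 with h | h
          ·
            rcases Nat.lt_or_ge i 160 with h | h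
            ·
              exact m4 i (by omega) (by omega)
            ·
              exact m5 i (by omega) (by omega)
          ·
            rcases Nat.lt_or_ge i 224 with h | h
            ·
              exact m6 i (by omega) (by omega)
            ·
              exact m7 i (by omega) (by omega)
      ·
        rcases Nat.lt_or_ge i 384 with h | h
        ·
          rcases Nat.lt_or_ge i 320 with h | h
          ·
            rcases Nat.lt_or_ge i 288 with h | h
            ·
              exact m8 i (by omega) (by omega)
            ·
              exact m9 i (by omega) (by omega)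
          ·
            rcases Nat.lt_or_ge i 352 with h | h
            ·
              exact m10 i (by omega) (by omega)
            ·
              exact m11 i (by omega) (by omega)
        ·
          rcases Nat.lt_or_ge i 448 with h | h
          ·
            rcases Nat.lt_or_ge i 416 with h | h
            ·
              exact m12 i (by omega) (by omega)
            ·
              exact m13 i (by omega) (by omega)
          ·
            rcases Nat.lt_or_ge i 480 with h | h
            ·
              exact m14 i (by omega) (by omega)
            ·
              exact m15 i (by omega) (by omega)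
    ·
      rcases Nat.lt_or_ge i 768 with h | h
      ·
        rcases Nat.lt_or_ge i 640 with h | h
        ·
          rcases Nat.lt_or_ge i 576 with h | h
          ·
            rcases Nat.lt_or_ge i 544 with h | h
            ·
              exact m16 i (by omega) (by omega)
            ·
              exact m17 i (by omega) (by omega)
          ·
            rcases Nat.lt_or_ge i 608 with h | h
            ·
              exact m18 i (by omega) (by omega)
            ·
              exact m19 i (by omega) (by omega)
        ·
          rcases Nat.lt_or_ge i 704 with h | h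
          ·
            rcases Nat.lt_or_ge i 672 with h | h
            ·
              exact m20 i (by omega) (by omega)
            ·
              exact m21 i (by omega) (by omega)
          ·
            rcases Nat.lt_or_ge i 736 with h | h
            ·
              exact m22 i (by omega) (by omega)
            ·
              exact m23 i (by omega) (by omega)
      ·
        rcases Nat.lt_or_ge i 896 with h | h
        ·
          rcases Nat.lt_or_ge i 832 with h | h
          ·
            rcases Nat.lt_or_ge i 800 with h | h
            ·
              exact m24 i (by omega) (by omega)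
            ·
              exact m25 i (by omega) (by omega)
          ·
            rcases Nat.lt_or_ge i 864 with h | h
            ·
              exact m26 i (by omega) (by omega)
            ·
              exact m27 i (by omega) (by omega)
        ·
          rcases Nat.lt_or_ge i 960 with h | h
          ·
            rcases Nat.lt_or_ge i 928 with h | h
            ·
              exact m28 i (by omega) (by omega)
            ·
              exact m29 i (by omega) (by omega)
          ·
            rcases Nat.lt_or_ge i 992 with h | h
            ·
              exact m30 i (by omega) (by omega)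
            ·
              exact m31 i (by omega) (by omega)
  ·
    rcases Nat.lt_or_ge i 1536 with h | h
    ·
      rcases Nat.lt_or_ge i 1280 with h | h
      ·
        rcases Nat.lt_or_ge i 1152 with h | h
        ·
          rcases Nat.lt_or_ge i 1088 with h | h
          ·
            rcases Nat.lt_or_ge i 1056 with h | h
            ·
              exact m32 i (by omega) (by omega)
            ·
              exact m33 i (by omega) (by omega)
          ·
            rcases Nat.lt_or_ge i 1120 with h | h
            ·
              exact m34 i (by omega) (by omega)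
            ·
              exact m35 i (by omega) (by omega)
        ·
          rcases Nat.lt_or_ge i 1216 with h | h
          ·
            rcases Nat.lt_or_ge i 1184 with h | h
            ·
              exact m36 i (by omega) (by omega)
            ·
              exact m37 i (by omega) (by omega)
          ·
            rcases Nat.lt_or_ge i 1248 with h | h
            ·
              exact m38 i (by omega) (by omega)
            ·
              exact m39 i (by omega) (by omega)
      ·
        rcases Nat.lt_or_ge i 1408 with h | h
        ·
          rcases Nat.lt_or_ge i 1344 with h | h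
          ·
            rcases Nat.lt_or_ge i 1312 with h | h
            ·
              exact m40 i (by omega) (by omega)
            ·
              exact m41 i (by omega) (by omega)
          ·
            rcases Nat.lt_or_ge i 1376 with h | h
            ·
              exact m42 i (by omega) (by omega)
            ·
              exact m43 i (by omega) (by omega)
        ·
          rcases Nat.lt_or_ge i 1472 with h | h
          ·
            rcases Nat.lt_or_ge i 1440 with h | h
            ·
              exact m44 i (by omega) (by omega)
            ·
              exact m45 i (by omega) (by omega)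
          ·
            rcases Nat.lt_or_ge i 1504 with h | h
            ·
              exact m46 i (by omega) (by omega)
            ·
              exact m47 i (by omega) (by omega)
    ·
      rcases Nat.lt_or_ge i 1792 with h | h
      ·
        rcases Nat.lt_or_ge i 1664 with h | h
        ·
          rcases Nat.lt_or_ge i 1600 with h | h
          ·
            rcases Nat.lt_or_ge i 1568 with h | h
            ·
              exact m48 i (by omega) (by omega)
            ·
              exact m49 i (by omega) (by omega)
          ·
            rcases Nat.lt_or_ge i 1632 with h | h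
            ·
              exact m50 i (by omega) (by omega)
            ·
              exact m51 i (by omega) (by omega)
        ·
          rcases Nat.lt_or_ge i 1728 with h | h
          ·
            rcases Nat.lt_or_ge i 1696 with h | h
            ·
              exact m52 i (by omega) (by omega)
            ·
              exact m53 i (by omega) (by omega)
          ·
            rcases Nat.lt_or_ge i 1760 with h | h
            ·
              exact m54 i (by omega) (by omega)
            ·
              exact m55 i (by omega) (by omega)
      ·
        rcases Nat.lt_or_ge i 1920 with h | h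
        ·
          rcases Nat.lt_or_ge i 1856 with h | h
          ·
            rcases Nat.lt_or_ge i 1824 with h | h
            ·
              exact m56 i (by omega) (by omega)
            ·
              exact m57 i (by omega) (by omega)
          ·
            rcases Nat.lt_or_ge i 1888 with h | h
            ·
              exact m58 i (by omega) (by omega)
            ·
              exact m59 i (by omega) (by omega)
        ·
          rcases Nat.lt_or_ge i 1984 with h | h
          ·
            rcases Nat.lt_or_ge i 1952 with h | h
            ·
              exact m60 i (by omega) (by omega)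
            ·
              exact m61 i (by omega) (by omega)
          ·
            rcases Nat.lt_or_ge i 2016 with h | h
            ·
              exact m62 i (by omega) (by omega)
            ·
              exact m63 i (by omega) (by omega)

/-- the subgroup generated by `x`, `y` and `(y * w⁻¹ * t * w) ^ 3` -/
def subM : Subgroup Spor.J4 :=
  (Subgroup.closure ({Spor.J4.x, Spor.J4.y, (Spor.J4.y * ((Spor.J4.y * Spor.J4.x) ^ 4 *
      Spor.J4.y⁻¹ * Spor.J4.x)⁻¹ * Spor.J4.t * ((Spor.J4.y * Spor.J4.x) ^ 4 * Spor.J4.y⁻¹ *
      Spor.J4.x)) ^ 3} : Set (FreeGroup Spor.J4.Gen))).map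
    (PresentedGroup.mk (Spor.coxRelators Spor.J4.edges ∪ {r | r ∈ Spor.J4.extra}))

theorem subM_le : subM ≤ Subgroup.closure (model.wordVal '' {w | w ∈ Data.gens}) := by
  rw [subM, MonoidHom.map_closure, Subgroup.closure_le]
  have hmem : ∀ w ∈ Data.gens, model.wordVal w ∈
      Subgroup.closure (model.wordVal '' {w | w ∈ Data.gens}) :=
    fun w hw => Subgroup.subset_closure ⟨w, hw, rfl⟩
  rintro _ ⟨r, hr, rfl⟩
  simp only [Set.mem_insert_iff, Set.mem_singleton_iff] at hr
  rw [gens_eq] at hmem
  have h1 := hmem _ (List.mem_cons_self)
  have h2 := hmem _ (List.mem_cons_of_mem _ List.mem_cons_self)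
  have h3 := hmem _ (List.mem_cons_of_mem _ (List.mem_cons_of_mem _ List.mem_cons_self))
  rw [← gens_eq] at h1 h2 h3
  have hmt : model.t = jt := rfl
  simp only [Model.wordVal, val_enc', hmt, List.map_cons, List.map_nil, List.prod_cons,
    List.prod_nil, mul_one, map_mul, map_inv, incl_py, incl_px] at h1 h2 h3
  rcases hr with rfl | rfl | rfl
  · exact h1
  · exact h2
  · simp only [wP, map_mul, map_inv, map_pow, incl_px, incl_py] at h3 ⊢
    show (jy * ((jy * jx) ^ 4 * jy⁻¹ * jx)⁻¹ * jt * ((jy * jx) ^ 4 * jy⁻¹ * jx)) ^ 3 ∈ _
    generalize ((jy * jx) ^ 4 * jy⁻¹ * jx) = W at h3 ⊢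
    simpa only [pow_succ, pow_zero, one_mul, mul_assoc, SetLike.mem_coe] using h3

theorem finite_range_incl : Finite incl.range ∧ Nat.card incl.range ≤ 244823040 := by
  haveI : Finite P := Finite.of_equiv _ equivM24.toEquiv.symm
  haveI : Finite incl.range := Finite.of_surjective incl.rangeRestrict incl.rangeRestrict_surjective
  refine ⟨inferInstance,
    (Nat.card_le_card_of_surjective incl.rangeRestrict incl.rangeRestrict_surjective).trans ?_⟩
  rw [Nat.card_congr equivM24.toEquiv]
  exact le_of_eq Mathieu.card_M24

theorem card_M_le : Finite subM ∧ Nat.card subM ≤ 2 ^ 11 * 244823040 := by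
  obtain ⟨hf, hc⟩ := finite_range_incl
  haveI := hf
  have h0 : Data.states.get 0 = some (0, code.one) := by decide +kernel
  obtain ⟨h1, h2⟩ := card_le_of_moves model (N := 2048) (S := Data.states) (ws := Data.gens)
    (by norm_num) h0 moves subM_le
  exact ⟨h1, h2.trans (Nat.mul_le_mul (by norm_num) hc)⟩

end CfsgLib.J4Index22
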