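import Cfsg.Agent.DCosetCert22.Sound
import Mathlib.GroupTheory.Coset.Card
import Mathlib.GroupTheory.GroupAction.Quotient

/-!
A list of states closed under the paths of some elements bounds the subgroup they generate.
-/

set_option autoImplicit false

namespace CfsgLib.DCert22

open scoped Pointwise

/-- binary trees of states -/
inductive States where
  | leaf
  | one (a x : ℕ)
  | node (n : ℕ) (l r : States)

/-- lookup; `n` is the number of entries of the left part -/
def States.get : States → ℕ → Option (ℕ × ℕ)
  | .leaf, _ => none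
  | .one a x, i => if Nat.beq i 0 then some (a, x) else none
  | .node n l r, i => if Nat.blt i n then l.get i else r.get (i - n)

/-- the paths from one state, one for each generator, end at the stated entries -/
def movesOK (C : Code) (D : Cert) (n N : ℕ) (S : States) (p : ℕ × ℕ) :
    List (ℕ × List ℕ) → List (ℕ × List Op) → Bool
  | [], [] => true
  | w :: ws, (j, l) :: ls =>
    Nat.blt j N && wordEq (word C l) w &&
    (match run C D.facts n l p, S.get j with
      | some q, some q' => Nat.beq q.1 q'.1 && Nat.beq q.2 q'.2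
      | _, _ => false) && movesOK C D n N S p ws ls
  | _, _ => false

/-- consecutive entries, from number `s` on, have closed paths -/
def closedOK (C : Code) (D : Cert) (n N : ℕ) (S : States) (ws : List (ℕ × List ℕ)) :
    ℕ → List (List (ℕ × List Op)) → Bool
  | _, [] => true
  | s, m :: ms =>
    (match S.get s with
      | some p => C.valid p.2 && movesOK C D n N S p ws m
      | none => false) && closedOK C D n N S ws (s + 1) ms

variable {G Hg : Type*} [Group G] [Group Hg] {C : Code} (M : Model C G Hg)
variable {L : Subgroup G} {D : Cert} {n N : ℕ}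

/-- entry `i` is carried into the list by each listed word -/
def Moves (M : Model C G Hg) (L : Subgroup G) (D : Cert) (N : ℕ) (S : States)
    (ws : List (ℕ × List ℕ)) (i : ℕ) : Prop :=
  ∃ p, S.get i = some p ∧
    ∀ w ∈ ws, ∃ j < N, ∃ q, S.get j = some q ∧ Rel L (stVal M D p * M.wordVal w) (stVal M D q)

theorem movesOK_spec (hA : AllHold M L D n) {S : States} {p : ℕ × ℕ} (hp : M.Ok p.2) :
    ∀ (ws : List (ℕ × List ℕ)) (ls : List (ℕ × List Op)), movesOK C D n N S p ws ls = true →
      ∀ w ∈ ws, ∃ j < N, ∃ q, S.get j = some q ∧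
        Rel L (stVal M D p * M.wordVal w) (stVal M D q)
  | [], _, _, w, hw => by simp at hw
  | w :: ws, [], h, _, _ => by simp [movesOK] at h
  | w :: ws, (j, l) :: ls, h, v, hv => by
    simp only [movesOK, Bool.and_eq_true] at h
    obtain ⟨⟨⟨hj, hw⟩, hrun⟩, hrec⟩ := h
    rcases List.mem_cons.1 hv with rfl | hv
    · split at hrun
      · next q q' hq hq' =>
        simp only [Bool.and_eq_true] at hrun
        obtain ⟨hl, -, hr⟩ := run_spec M hA hp hq
        have e : q = q' :=
          Prod.ext (Nat.eq_of_beq_eq_true hrun.1) (Nat.eq_of_beq_eq_true hrun.2)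
        refine ⟨j, by simpa [Nat.blt, Nat.ble_eq] using hj, q, e ▸ hq', ?_⟩
        rw [← wordEq_eq hw, (M.word_spec l hl).2]
        exact hr
      · simp at hrun
    · exact movesOK_spec hA hp ws ls hrec v hv

theorem closedOK_spec (hA : AllHold M L D n) {S : States} {ws : List (ℕ × List ℕ)} :
    ∀ (ms : List (List (ℕ × List Op))) (s : ℕ), closedOK C D n N S ws s ms = true →
      ∀ i, s ≤ i → i < s + ms.length → Moves M L D N S ws i
  | [], s, _, i, h1, h2 => by simp at h2; omega
  | m :: ms, s, h, i, h1, h2 => by
    simp only [closedOK, Bool.and_eq_true] at h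
    obtain ⟨hm, hrec⟩ := h
    rcases Nat.eq_or_lt_of_le h1 with rfl | h1
    · split at hm
      · next p hp =>
        simp only [Bool.and_eq_true] at hm
        exact ⟨p, hp, movesOK_spec M hA (M.ok_valid hm.1) ws m hm.2⟩
      · simp at hm
    · refine closedOK_spec hA ms (s + 1) hrec i h1 ?_
      simp only [List.length_cons] at h2
      omega

/-- closed lists bound the generated subgroup -/
theorem card_le_of_moves [Finite L] {S : States} {ws : List (ℕ × List ℕ)}
    (h0 : 0 < N) (hS0 : S.get 0 = some (0, C.one))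
    (hmv : ∀ i < N, Moves M L D N S ws i) {K : Subgroup G}
    (hK : K ≤ Subgroup.closure (M.wordVal '' {w | w ∈ ws})) :
    Finite K ∧ Nat.card K ≤ N * Nat.card L := by
  classical
  let f : ℕ → G ⧸ L := fun i => QuotientGroup.mk (stVal M D ((S.get i).getD (0, C.one)))⁻¹
  let T : Set (G ⧸ L) := f '' {i | i < N}
  have hT : T.Finite := (Set.finite_lt_nat N).image f
  have hstab : ∀ w ∈ ws, (M.wordVal w)⁻¹ ∈ MulAction.stabilizer G T := by
    intro w hw
    refine MulAction.mem_stabilizer_iff.2 (Set.eq_of_subset_of_ncard_le ?_ ?_ hT)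
    · rintro _ ⟨_, ⟨i, hi, rfl⟩, rfl⟩
      obtain ⟨p, hp, hall⟩ := hmv i hi
      obtain ⟨j, hj, q, hq, hr⟩ := hall w hw
      refine ⟨j, hj, ?_⟩
      simp only [f, hp, hq, Option.getD_some, MulAction.Quotient.smul_mk, smul_eq_mul]
      refine QuotientGroup.eq.2 ?_
      have := L.inv_mem hr
      simpa [mul_assoc] using this
    · exact (Set.ncard_image_of_injective T (MulAction.injective _)).ge
  have hKs : ∀ k ∈ K, k • T = T := by
    intro k hk
    refine MulAction.mem_stabilizer_iff.1 ((hK.trans ?_) hk)
    rw [Subgroup.closure_le]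
    rintro _ ⟨w, hw, rfl⟩
    simpa using (MulAction.stabilizer G T).inv_mem (hstab w hw)
  have hbase : ∀ k ∈ K, (QuotientGroup.mk k : G ⧸ L) ∈ T := by
    intro k hk
    rw [← hKs k hk]
    refine ⟨QuotientGroup.mk 1, ⟨0, h0, ?_⟩, ?_⟩
    · simp [f, hS0, stVal, grep, gaux, M.val_one]
    · simp
  have : Finite T := hT.to_subtype
  let φ : K → T × L := fun k => (⟨QuotientGroup.mk (k : G), hbase k k.2⟩,
    ⟨(QuotientGroup.mk (k : G) : G ⧸ L).out⁻¹ * (k : G),
      QuotientGroup.eq.1 (QuotientGroup.out_eq' _)⟩)
  have hinj : Function.Injective φ := by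
    intro a b hab
    obtain ⟨h1, h2⟩ := Prod.mk.injEq .. ▸ hab
    have e1 := congrArg Subtype.val h1
    have e2 := congrArg Subtype.val h2
    dsimp only at e1 e2
    rw [e1] at e2
    exact Subtype.ext (mul_left_cancel e2)
  have : Finite K := Finite.of_injective φ hinj
  refine ⟨inferInstance, (Nat.card_le_card_of_injective φ hinj).trans ?_⟩
  rw [Nat.card_prod]
  refine Nat.mul_le_mul_right _ ?_
  rw [Nat.card_coe_set_eq]
  refine (Set.ncard_image_le (Set.finite_lt_nat N)).trans ?_
  exact le_of_eq (by simp [Set.ncard_eq_toFinset_card'])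

end CfsgLib.DCert22
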