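import Cfsg.Agent.DCosetCert22.Closure

/-!
Permutations of 24 points coded by numbers, five bits for each image.
-/

set_option autoImplicit false

namespace CfsgLib.J4Index22

/-- binary trees of numbers -/
inductive NTree where
  | leaf
  | one (n : ℕ)
  | node (k : ℕ) (l r : NTree)

/-- lookup; `k` is the number of entries of the left part -/
def NTree.get : NTree → ℕ → ℕ
  | .leaf, _ => 0
  | .one n, _ => n
  | .node k l r, i => if Nat.blt i k then l.get i else r.get (i - k)

/-- the code of the first `k` values of `f` -/
noncomputable def pk (f : ℕ → ℕ) : ℕ → ℕ :=
  Nat.rec 0 fun i acc => Nat.add acc (Nat.shiftLeft (f i) (Nat.mul 5 i))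

/-- image of `i` -/
def get (n i : ℕ) : ℕ := Nat.mod (Nat.shiftRight n (Nat.mul 5 i)) 32

/-- the product -/
noncomputable def mul (a b : ℕ) : ℕ := pk (fun i => get a (get b i)) 24

/-- contributions of the first `k` points to the inverse -/
noncomputable def invAux (a : ℕ) : ℕ → ℕ :=
  Nat.rec 0 fun i acc => Nat.add acc (Nat.shiftLeft i (Nat.mul 5 (get a i)))

/-- the inverse -/
noncomputable def inv (a : ℕ) : ℕ := invAux a 24

/-- the identity -/
noncomputable def one : ℕ := pk id 24

/-- find an entry -/
def find : List (ℕ × ℕ) → ℕ → Option ℕ
  | [], _ => none
  | (x, e) :: l, i => if Nat.beq x i then some e else find l i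

/-- division by a chain of transversals -/
noncomputable def sift : List (ℕ × List (ℕ × ℕ)) → ℕ → Bool
  | [], n => Nat.beq n one
  | (b, es) :: lv, n =>
    match find es (get n b) with
    | some e => sift lv (mul e n)
    | none => false

/-- a number is the code of a list of images -/
noncomputable def canon (n : ℕ) : Bool :=
  Nat.beq (pk (get n) 24) n && (List.range 24).all fun i => Nat.blt (get n i) 24

/-- the operations on `M24`, with the centraliser of `t` given by its chain -/
noncomputable def code (ch cch : List (ℕ × List (ℕ × ℕ))) : DCert22.Code where
  mul := mul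
  inv := inv
  one := one
  u := one
  valid n := canon n && sift ch n
  cim c := if canon c && sift cch c then some c else none

/-- each element is a product of two earlier ones, after `s` given ones -/
noncomputable def slpOK (E : List (ℕ × ℕ × ℕ)) (s : ℕ) : Bool :=
  (List.range E.length).all fun k => Nat.blt k s ||
    match E[k]? with
    | some (e, i, j) => Nat.blt i k && Nat.blt j k &&
        (match E[i]?, E[j]? with
          | some (a, _), some (b, _) => Nat.beq e (mul a b)
          | _, _ => false)
    | none => false

/-- all transversal elements are listed -/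
def chainListed (E : List (ℕ × ℕ × ℕ)) (ch : List (ℕ × List (ℕ × ℕ))) : Bool :=
  ch.all fun l => l.2.all fun p => E.any fun e => Nat.beq e.1 p.2

end CfsgLib.J4Index22
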