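import Cfsg.Agent.J4Index22.Model
import Cfsg.Agent.J4Index22.Check.Moves
import Cfsg.Agent.J4Index22.Check.Valid
import Cfsg.Agent.J4Local.Model

/-!
The model of `M24` in the presented fourth Janko group, its relator words and the cover of `M24`
by cosets of the centraliser of `t`.
-/

set_option autoImplicit false
set_option maxRecDepth 100000

namespace CfsgLib.J4Index22

open Cfsg CfsgLib.CosetEnum CfsgLib.J4M24 DCert22
open CfsgLib.J4Local (jx jy jt incl_px incl_py t_sq t_comm_x t_comm_trio trio relator_one)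

attribute [local irreducible] encP J4M24.phi one pk

/-- the operations -/
noncomputable abbrev opsJ : DCert22.Code := code Tab.chain Tab.cchain

theorem elems_ok : (slpOK Tab.elems 4 && chainListed Tab.elems Tab.chain) = true := by
  decide +kernel

theorem celems_ok : (slpOK Tab.celems 3 && chainListed Tab.celems Tab.cchain) = true := by
  decide +kernel

/-- code of the word centralising `t` -/
def cs : ℕ := (Tab.celems.getD 2 (0, 0, 0)).1

theorem encP_trio : encP trio = cs := by
  simp only [trio, pow_succ, pow_zero, one_mul, encP_mul, encP_pyi, encP_px, encP_py]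
  decide +kernel

theorem first_elems : Tab.elems.take 4 = [(one, 0, 0), (cx, 0, 0), (cy, 0, 0), (cyi, 0, 0)] := by
  decide +kernel

theorem first_celems : Tab.celems.take 3 = [(one, 0, 0), (cx, 0, 0), (cs, 0, 0)] := by
  decide +kernel

/-- the elements of the seven-relator group commuting with `t` -/
def centT : Subgroup P := (Subgroup.centralizer {jt}).comap incl

theorem mem_centT {g : P} : g ∈ centT ↔ incl g * jt = jt * incl g := by
  simp only [centT, Subgroup.mem_comap, Subgroup.mem_centralizer_singleton_iff]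

theorem valid_ok {n : ℕ} (h : opsJ.valid n = true) : ∃ a, encP a = n := by
  simp only [opsJ, code, Bool.and_eq_true] at h
  obtain ⟨h1, h2⟩ := canon_spec h.1
  have he := elems_ok
  rw [Bool.and_eq_true] at he
  have h0 : ∀ k < 4, ∀ e, Tab.elems[k]? = some e → ∃ a ∈ (⊤ : Subgroup P), encP a = e.1 := by
    intro k hk e hke
    have : (Tab.elems.take 4)[k]? = some e := by rw [List.getElem?_take, if_pos hk, hke]
    rw [first_elems] at this
    interval_cases k <;> simp at this <;> subst this
    exacts [⟨1, trivial, encP_one⟩, ⟨px, trivial, encP_px⟩, ⟨py, trivial, encP_py⟩,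
      ⟨py⁻¹, trivial, encP_pyi⟩]
  obtain ⟨a, -, ha⟩ := sift_spec ⊤ (slp_spec he.1 ⊤ h0) Tab.chain he.2 n h1 h2 h.2
  exact ⟨a, ha⟩

theorem cim_ok {c d : ℕ} (h : opsJ.cim c = some d) :
    ∃ a, encP a = c ∧ d = c ∧ incl a * jt = jt * incl a := by
  simp only [opsJ, code] at h
  split at h
  swap; · cases h
  next hc =>
  simp only [Option.some.injEq] at h
  simp only [Bool.and_eq_true] at hc
  obtain ⟨h1, h2⟩ := canon_spec hc.1
  have he := celems_ok
  rw [Bool.and_eq_true] at he
  have h0 : ∀ k < 3, ∀ e, Tab.celems[k]? = some e → ∃ a ∈ centT, encP a = e.1 := by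
    intro k hk e hke
    have : (Tab.celems.take 3)[k]? = some e := by rw [List.getElem?_take, if_pos hk, hke]
    rw [first_celems] at this
    interval_cases k <;> simp at this <;> subst this
    exacts [⟨1, one_mem _, encP_one⟩,
      ⟨px, mem_centT.2 (by rw [incl_px]; exact t_comm_x.eq.symm), encP_px⟩,
      ⟨trio, mem_centT.2 t_comm_trio.eq.symm, encP_trio⟩]
  obtain ⟨a, ha, hac⟩ := sift_spec centT (slp_spec he.1 centT h0) Tab.cchain he.2 c h1 h2 hc.2
  exact ⟨a, hac, h.symm, mem_centT.1 ha⟩

/-- the model -/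
noncomputable def model : DCert22.Model opsJ Spor.J4 P where
  enc := encP
  hom := incl
  t := jt
  enc_inj := encP_injective
  enc_one := encP_one
  enc_mul := encP_mul
  enc_inv := encP_inv
  valid_spec _ h := valid_ok h
  u_spec := ⟨1, encP_one, by rw [map_one]; exact t_sq⟩
  cim_spec c d h := by
    obtain ⟨a, ha, hd, hc⟩ := cim_ok h
    exact ⟨a, a, ha, hd ▸ ha, hc⟩

/-- the letters as steps: `0, 1` for `x`, `2, 3` for `y`, `4, 5` for `t` -/
def opOf : ℕ → Op
  | 0 => .h cx
  | 1 => .h cx
  | 2 => .h cy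
  | 3 => .h cyi
  | _ => .t 0 true

/-- values of the letters -/
noncomputable def jval (c : ℕ) : Spor.J4 := model.pathVal [opOf c]

theorem pathOk_letters : ∀ w : List ℕ,
    model.PathOk (w.map opOf) ∧ model.pathVal (w.map opOf) = gword jval w
  | [] => ⟨trivial, rfl⟩
  | c :: w => by
    obtain ⟨h1, h2⟩ := pathOk_letters w
    have h3 : model.PathOk [opOf c] := by
      rcases c with _ | _ | _ | _ | c
      · exact ⟨⟨px, encP_px⟩, trivial⟩
      · exact ⟨⟨px, encP_px⟩, trivial⟩
      · exact ⟨⟨py, encP_py⟩, trivial⟩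
      · exact ⟨⟨py⁻¹, encP_pyi⟩, trivial⟩
      · exact trivial
    refine ⟨model.pathOk_append [opOf c] _ h3 h1, ?_⟩
    rw [gword_cons, List.map_cons, ← List.singleton_append, model.pathVal_append, h2]
    rfl

theorem val_code {a : P} {n : ℕ} (h : encP a = n) : model.val n = incl a := by
  rw [← h]; exact model.val_enc a

theorem jx_inv : jx⁻¹ = jx := by
  rw [inv_eq_iff_mul_eq_one]
  have h := gword_rel (w := [0, 0]) (by decide)
  have h' := congrArg incl h
  simpa [gword, gl, lets, signedVal, incl_px] using h'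

/-- the letter of a generator -/
def encJ : Spor.J4.Gen → ℕ
  | .x => 0
  | .y => 2
  | .t => 4

theorem jval_spec (a : Spor.J4.Gen) :
    PresentedGroup.of a = jval (encJ a) ∧
      (PresentedGroup.of a : Spor.J4)⁻¹ = jval (encJ a ^^^ 1) := by
  cases a
  · refine ⟨?_, ?_⟩
    · show jx = model.val cx * 1
      rw [mul_one, val_code encP_px, incl_px]
    · show jx⁻¹ = model.val cx * 1
      rw [mul_one, val_code encP_px, incl_px, jx_inv]
  · refine ⟨?_, ?_⟩
    · show jy = model.val cy * 1
      rw [mul_one, val_code encP_py, incl_py]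
    · show jy⁻¹ = model.val cyi * 1
      rw [mul_one, val_code encP_pyi, map_inv, incl_py]
  · refine ⟨(mul_one jt).symm, ?_⟩
    show jt⁻¹ = jt * 1
    rw [mul_one, inv_eq_of_mul_eq_one_right t_sq]

/-- the letters of a word -/
def lettersOf (r : FreeGroup Spor.J4.Gen) : List ℕ := encWord encJ (fun c => c ^^^ 1) r

theorem mk_eq_pathVal (r : FreeGroup Spor.J4.Gen) :
    PresentedGroup.mk (Spor.coxRelators Spor.J4.edges ∪ {r | r ∈ Spor.J4.extra}) r =
      model.pathVal ((lettersOf r).map opOf) := by
  rw [(pathOk_letters _).2]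
  exact map_eq_gword encJ (fun c => c ^^^ 1) _ jval (fun a => (jval_spec a).1)
    (fun a => (jval_spec a).2) r

/-- a cut word is a conjugate -/
def cutPath (r : FreeGroup Spor.J4.Gen) (j : ℕ) : List Op :=
  ((lettersOf r).drop j ++ (lettersOf r).take j).map opOf

theorem cutPath_spec {r : FreeGroup Spor.J4.Gen} (hr : r ∈ Spor.J4.extra) (j : ℕ) :
    model.wordVal (word opsJ (cutPath r j)) = 1 := by
  unfold cutPath
  rw [(model.word_spec _ (pathOk_letters _).1).2, (pathOk_letters _).2, gword_append]
  have h1 : gword jval (lettersOf r) = 1 := by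
    rw [← (pathOk_letters _).2, ← mk_eq_pathVal]
    exact PresentedGroup.one_of_mem (Or.inr hr)
  rw [← List.take_append_drop j (lettersOf r), gword_append] at h1
  exact mul_eq_one_comm.1 h1

/-- a representative moved by an element stays inside the listed cosets -/
def Moves (a : P) : Prop :=
  ∀ p < 3795, ∃ q < 3795,
    Slide model (opsJ.mul (opsJ.inv (Tab.reps.get q)) (opsJ.mul (encP a) (Tab.reps.get p)))

theorem ok_rep {p : ℕ} (hp : p < 3795) : model.Ok (Tab.reps.get p) := by
  have h := List.all_eq_true.1 (Tab.valid_all p hp) (p % 345)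
    (List.mem_range.2 (Nat.mod_lt _ (by norm_num)))
  rw [Nat.div_add_mod' p 345] at h
  exact valid_ok h

theorem Moves.mul {a b : P} (ha : Moves a) (hb : Moves b) : Moves (a * b) := by
  intro p hp
  obtain ⟨q, hq, h1⟩ := hb p hp
  obtain ⟨r, hr, h2⟩ := ha q hq
  refine ⟨r, hr, ?_⟩
  have := slide_mul model h2 h1
  obtain ⟨u, hu⟩ := ok_rep hp
  obtain ⟨v, hv⟩ := ok_rep hq
  obtain ⟨w, hw⟩ := ok_rep hr
  rw [← hu, ← hv, ← hw] at this
  rw [← hu, ← hw]
  have ea : encP a = model.enc a := rfl
  have eb : encP b = model.enc b := rfl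
  have eab : encP (a * b) = model.enc (a * b) := rfl
  simp only [ea, eb, eab, ← model.enc_inv, ← model.enc_mul] at this ⊢
  simpa [mul_assoc] using this

theorem moves_of_check {a : P} {g : ℕ} (hg : encP a = g)
    (h : ∀ p < 3795, ∃ q < 3795, ((code Tab.chain Tab.cchain).cim
      (mul (inv (Tab.reps.get q)) (mul g (Tab.reps.get p)))).isSome = true) : Moves a := by
  intro p hp
  obtain ⟨q, hq, hs⟩ := h p hp
  obtain ⟨d, hd⟩ := Option.isSome_iff_exists.1 hs
  refine ⟨q, hq, ?_⟩
  rw [hg]
  exact slide_of_cim model hd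

/-- elements moving representatives into cosets, with their inverses -/
def movers : Subgroup P where
  carrier := {a | Moves a ∧ Moves a⁻¹}
  one_mem' := by
    have hone : Moves 1 := fun p hp => by
      refine ⟨p, hp, ?_⟩
      obtain ⟨u, hu⟩ := ok_rep hp
      rw [← hu, encP_one]
      show Slide model (opsJ.mul (opsJ.inv (model.enc u)) (opsJ.mul opsJ.one (model.enc u)))
      rw [← model.enc_one, ← model.enc_inv, ← model.enc_mul, ← model.enc_mul, one_mul,
        inv_mul_cancel]
      exact ⟨⟨1, rfl⟩, model.enc 1, ⟨1, rfl⟩, by rw [model.val_enc, map_one, one_mul, mul_one]⟩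
    exact ⟨hone, by rwa [inv_one]⟩
  mul_mem' := fun {a b} ha hb => ⟨ha.1.mul hb.1, by rw [mul_inv_rev]; exact hb.2.mul ha.2⟩
  inv_mem' := fun {a} ha => ⟨ha.2, by rw [inv_inv]; exact ha.1⟩

theorem px_inv : px⁻¹ = px := by
  rw [inv_eq_iff_mul_eq_one]
  simpa [gword, gl, lets, signedVal] using gword_rel (w := [0, 0]) (by decide)

theorem movers_top : movers = ⊤ := by
  rw [eq_top_iff, ← PresentedGroup.closure_range_of, Subgroup.closure_le]
  rintro _ ⟨b, rfl⟩
  cases b
  · have hx : Moves px := moves_of_check encP_px Tab.move0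
    exact ⟨hx, by show Moves px⁻¹; rw [px_inv]; exact hx⟩
  · exact ⟨moves_of_check encP_py Tab.move1,
      moves_of_check (a := py⁻¹) encP_pyi Tab.move2⟩

theorem cover : ∀ x, model.Ok x →
    ∃ p < 3795, Slide model (opsJ.mul (opsJ.inv (Tab.reps.get p)) x) := by
  rintro x ⟨a, rfl⟩
  have ha : a ∈ movers := by rw [movers_top]; trivial
  obtain ⟨q, hq, h⟩ := ha.1 0 (by norm_num)
  refine ⟨q, hq, ?_⟩
  rw [Tab.rep_zero] at h
  change Slide model (opsJ.mul _ (opsJ.mul (model.enc a) opsJ.one)) at h
  rwa [← model.enc_one, ← model.enc_mul, mul_one] at h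

end CfsgLib.J4Index22
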