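import Cfsg.Agent.J4M24.Iso
import Cfsg.Agent.J4Index22.Code
import Cfsg.Agent.J4Index22.Data.Elems
import Cfsg.Agent.J4Index22.Data.Cert
import Mathlib.Algebra.Order.BigOperators.Group.Finset

/-!
The coded Mathieu group as a model inside the presented fourth Janko group.
-/

set_option autoImplicit false
set_option maxRecDepth 100000

open scoped BigOperators

namespace CfsgLib.J4Index22

open Cfsg CfsgLib.CosetEnum CfsgLib.Mathieu CfsgLib.Golay CfsgLib.J4M24 DCert22

theorem pk_eq (f : ℕ → ℕ) : ∀ n, pk f n = ∑ i ∈ Finset.range n, f i * 32 ^ i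
  | 0 => rfl
  | n + 1 => by
    rw [Finset.sum_range_succ, ← pk_eq f n]
    show pk f n + (f n) <<< (5 * n) = _
    rw [Nat.shiftLeft_eq, pow_mul]
    norm_num

theorem invAux_eq (a : ℕ) : ∀ n, invAux a n = ∑ i ∈ Finset.range n, i * 32 ^ get a i
  | 0 => rfl
  | n + 1 => by
    rw [Finset.sum_range_succ, ← invAux_eq a n]
    show invAux a n + n <<< (5 * get a n) = _
    rw [Nat.shiftLeft_eq, pow_mul]
    norm_num

theorem pk_lt (f : ℕ → ℕ) : ∀ n, (∀ i < n, f i < 32) → pk f n < 32 ^ n
  | 0, _ => by simp [pk]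
  | n + 1, h => by
    have h1 := pk_lt f n fun i hi => h i (by omega)
    have h2 := h n (by omega)
    have h3 : pk f (n + 1) = pk f n + f n * 32 ^ n := by
      rw [pk_eq, pk_eq, Finset.sum_range_succ]
    rw [h3, pow_succ]
    calc pk f n + f n * 32 ^ n < 32 ^ n + f n * 32 ^ n := by omega
      _ = (f n + 1) * 32 ^ n := by ring
      _ ≤ 32 * 32 ^ n := Nat.mul_le_mul_right _ (by omega)
      _ = 32 ^ n * 32 := by ring

theorem get_pk (f : ℕ → ℕ) : ∀ n, (∀ i < n, f i < 32) → ∀ i < n, get (pk f n) i = f i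
  | 0, _, i, hi => by omega
  | n + 1, h, i, hi => by
    have h3 : pk f (n + 1) = pk f n + f n * 32 ^ n := by
      rw [pk_eq, pk_eq, Finset.sum_range_succ]
    have hg : ∀ m, get m i = m / 32 ^ i % 32 := fun m => by
      show Nat.shiftRight m (5 * i) % 32 = _
      rw [Nat.shiftRight_eq, Nat.shiftRight_eq_div_pow, pow_mul]
      norm_num
    rw [hg, h3]
    have hlt := pk_lt f n fun j hj => h j (by omega)
    have hpos : 0 < 32 ^ i := pow_pos (by norm_num) i
    rcases Nat.lt_succ_iff_lt_or_eq.1 hi with hi' | rfl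
    · have e : f n * 32 ^ n = 32 ^ i * (32 * (f n * 32 ^ (n - i - 1))) := by
        have : 32 ^ n = 32 ^ i * (32 * 32 ^ (n - i - 1)) := by
          rw [← pow_succ', ← pow_add]; congr 1; omega
        rw [this]; ring
      rw [e, Nat.add_mul_div_left _ _ hpos, Nat.add_mul_mod_self_left, ← hg]
      exact get_pk f n (fun j hj => h j (by omega)) i hi'
    · rw [Nat.add_mul_div_right _ _ hpos, Nat.div_eq_of_lt hlt, zero_add,
        Nat.mod_eq_of_lt (h i (by omega))]

attribute [local irreducible] pk invAux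

/-- images as numbers -/
def ptFun (g : Equiv.Perm GolayPt) (i : ℕ) : ℕ := p2i (g (i2p i))

theorem ptFun_lt (g : Equiv.Perm GolayPt) (i : ℕ) : ptFun g i < 24 := p2i_lt _

/-- the code of a permutation -/
noncomputable def encPerm (g : Equiv.Perm GolayPt) : ℕ := pk (ptFun g) 24

theorem get_encPerm (g : Equiv.Perm GolayPt) {i : ℕ} (hi : i < 24) :
    get (encPerm g) i = ptFun g i :=
  get_pk _ _ (fun j _ => (ptFun_lt g j).trans (by norm_num)) i hi

theorem pk_congr {f f' : ℕ → ℕ} {n : ℕ} (h : ∀ i < n, f i = f' i) : pk f n = pk f' n := by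
  rw [pk_eq, pk_eq]
  exact Finset.sum_congr rfl fun i hi => by rw [h i (Finset.mem_range.1 hi)]

theorem encPerm_one : encPerm 1 = one := pk_congr fun i hi => by
  show p2i (i2p i) = i
  exact p2i_i2p i hi

theorem encPerm_mul (g h : Equiv.Perm GolayPt) :
    encPerm (g * h) = mul (encPerm g) (encPerm h) := pk_congr fun i hi => by
  rw [get_encPerm h hi, get_encPerm g (ptFun_lt h i)]
  show p2i (g (h (i2p i))) = p2i (g (i2p (p2i (h (i2p i)))))
  rw [i2p_p2i]

theorem encPerm_inv (g : Equiv.Perm GolayPt) : encPerm g⁻¹ = inv (encPerm g) := by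
  rw [inv, invAux_eq, encPerm, pk_eq]
  refine Finset.sum_bij (fun j _ => ptFun g⁻¹ j) (fun j _ => Finset.mem_range.2 (ptFun_lt _ j))
    ?_ ?_ ?_
  · intro a ha b hb h
    have h' := p2i_injective h
    have := congrArg p2i (g⁻¹.injective h')
    rwa [p2i_i2p _ (Finset.mem_range.1 ha), p2i_i2p _ (Finset.mem_range.1 hb)] at this
  · intro b hb
    refine ⟨ptFun g b, Finset.mem_range.2 (ptFun_lt g b), ?_⟩
    show p2i (g⁻¹ (i2p (p2i (g (i2p b))))) = b
    rw [i2p_p2i, Equiv.Perm.inv_def, Equiv.symm_apply_apply, p2i_i2p _ (Finset.mem_range.1 hb)]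
  · intro a ha
    rw [get_encPerm g (ptFun_lt g⁻¹ a)]
    show _ = p2i (g⁻¹ (i2p a)) * 32 ^ p2i (g (i2p (p2i (g⁻¹ (i2p a)))))
    rw [i2p_p2i, Equiv.Perm.inv_def, Equiv.apply_symm_apply, p2i_i2p _ (Finset.mem_range.1 ha)]
    rfl

theorem encPerm_injective : Function.Injective encPerm := fun g h e => by
  refine Equiv.ext fun p => p2i_injective ?_
  have := congrArg (fun n => get n (p2i p)) e
  simp only [get_encPerm _ (p2i_lt p), ptFun, i2p_p2i] at this
  exact this

/-- the code of an element of the seven-relator group -/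
noncomputable def encP (a : P) : ℕ := encPerm (phi a : Equiv.Perm GolayPt)

theorem encP_mul (a b : P) : encP (a * b) = mul (encP a) (encP b) := by
  rw [encP, map_mul, Subgroup.coe_mul, encPerm_mul]; rfl

theorem encP_inv (a : P) : encP a⁻¹ = inv (encP a) := by
  rw [encP, map_inv, InvMemClass.coe_inv, encPerm_inv]; rfl

theorem encP_one : encP 1 = one := by
  rw [encP, map_one, OneMemClass.coe_one, encPerm_one]

theorem encP_injective : Function.Injective encP := fun _ _ h =>
  phi_injective (Subtype.ext (encPerm_injective h))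

theorem phi_px : (phi px : Equiv.Perm GolayPt) = xM := by
  rw [phi, px, PresentedGroup.toGroup.of]; rfl

theorem phi_py : (phi py : Equiv.Perm GolayPt) = yM := by
  rw [phi, py, PresentedGroup.toGroup.of]; rfl

/-- code of the first generator -/
def cx : ℕ := (Tab.elems.getD 1 (0, 0, 0)).1

/-- code of the second generator -/
def cy : ℕ := (Tab.elems.getD 2 (0, 0, 0)).1

/-- code of the inverse of the second generator -/
def cyi : ℕ := (Tab.elems.getD 3 (0, 0, 0)).1

theorem xM_code : encPerm xM = cx := by decide +kernel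

theorem yM_code : encPerm yM = cy := by decide +kernel

theorem cyi_code : inv cy = cyi := by decide +kernel

theorem encP_px : encP px = cx := by rw [encP, phi_px]; exact xM_code

theorem encP_py : encP py = cy := by rw [encP, phi_py]; exact yM_code

theorem encP_pyi : encP py⁻¹ = cyi := by rw [encP_inv, encP_py, cyi_code]

/-- an element listed by a checked straight line program lies in any subgroup holding the first -/
theorem slp_spec {E : List (ℕ × ℕ × ℕ)} {s : ℕ} (hE : slpOK E s = true) (S : Subgroup P)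
    (h0 : ∀ k < s, ∀ e, E[k]? = some e → ∃ a ∈ S, encP a = e.1) :
    ∀ (k : ℕ) e, E[k]? = some e → ∃ a ∈ S, encP a = e.1 := by
  intro k
  induction k using Nat.strong_induction_on with
  | _ k ih =>
    intro e he
    by_cases hk : k < s
    · exact h0 k hk e he
    have hlen : k < E.length := (List.getElem?_eq_some_iff.1 he).1
    have h := List.all_eq_true.1 hE k (List.mem_range.2 hlen)
    simp only [he, Bool.or_eq_true, Bool.and_eq_true, Nat.blt, Nat.ble_eq] at h
    obtain ⟨e₀, i, j⟩ := e
    rcases h with h | ⟨⟨hi, hj⟩, h⟩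
    · omega
    split at h
    swap; · simp at h
    next a a' b b' ha hb =>
    obtain ⟨u, hu, rfl⟩ := ih i hi _ ha
    obtain ⟨v, hv, rfl⟩ := ih j hj _ hb
    exact ⟨u * v, mul_mem hu hv, by rw [encP_mul]; exact (Nat.eq_of_beq_eq_true h).symm⟩

theorem sift_spec {E : List (ℕ × ℕ × ℕ)} (S : Subgroup P)
    (hE : ∀ (k : ℕ) e, E[k]? = some e → ∃ a ∈ S, encP a = e.1) :
    ∀ (ch : List (ℕ × List (ℕ × ℕ))), chainListed E ch = true → ∀ n,
      (∀ i < 24, get n i < 24) → pk (get n) 24 = n → sift ch n = true → ∃ a ∈ S, encP a = n := by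
  intro ch
  induction ch with
  | nil =>
    intro _ n _ _ h
    exact ⟨1, one_mem S, by rw [encP_one]; exact (Nat.eq_of_beq_eq_true h).symm⟩
  | cons lev ch ih =>
    obtain ⟨b, es⟩ := lev
    intro hl n hn hpk h
    simp only [sift] at h
    split at h
    swap; · simp at h
    next e he =>
    simp only [chainListed, List.all_cons, Bool.and_eq_true] at hl
    have hmem : ∀ l : List (ℕ × ℕ), find l (get n b) = some e → ∃ x, (x, e) ∈ l := by
      intro l
      induction l with
      | nil => simp [find]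
      | cons q l ihl =>
        obtain ⟨x, y⟩ := q
        simp only [find]
        split
        · intro hy; simp only [Option.some.injEq] at hy; subst hy
          exact ⟨x, List.mem_cons_self⟩
        · intro hy; obtain ⟨z, hz⟩ := ihl hy; exact ⟨z, List.mem_cons_of_mem _ hz⟩
    obtain ⟨x, hx⟩ := hmem es he
    obtain ⟨q, hq, hqe⟩ := List.any_eq_true.1 (List.all_eq_true.1 hl.1 _ hx)
    obtain ⟨k, hk, rfl⟩ := List.getElem_of_mem hq
    obtain ⟨u, hu, hue⟩ := hE k _ (List.getElem?_eq_some_iff.2 ⟨hk, rfl⟩)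
    replace hue : encP u = e := hue.trans (Nat.eq_of_beq_eq_true hqe)
    have hm : ∀ i < 24, get (mul e n) i = get e (get n i) := fun i hi =>
      get_pk _ _ (fun j _ => Nat.mod_lt _ (by norm_num)) i hi
    have hlt : ∀ i < 24, get e i < 24 := fun i hi => by
      rw [← hue, encP, get_encPerm _ hi]; exact ptFun_lt _ i
    have hml : ∀ i < 24, get (mul e n) i < 24 := fun i hi => by
      rw [hm i hi]; exact hlt _ (hn i hi)
    obtain ⟨v, hv, hve⟩ := ih (by rw [chainListed]; exact hl.2) (mul e n) hml (pk_congr hm) h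
    refine ⟨u⁻¹ * v, mul_mem (inv_mem hu) hv, ?_⟩
    rw [encP_mul, encP_inv, hve, hue]
    conv_rhs => rw [← hpk]
    refine pk_congr fun i hi => ?_
    have hi' : get n i < 24 := hn i hi
    show get (inv e) (get (mul e n) i) = get n i
    rw [hm i hi, ← hue, ← encP_inv, encP, encP, get_encPerm _ hi',
      get_encPerm _ (ptFun_lt _ _), map_inv, InvMemClass.coe_inv]
    show p2i ((phi u : Equiv.Perm GolayPt)⁻¹ (i2p (p2i ((phi u : Equiv.Perm GolayPt) (i2p _))))) = _
    rw [i2p_p2i, Equiv.Perm.inv_def, Equiv.symm_apply_apply, p2i_i2p _ hi']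

theorem canon_spec {n : ℕ} (h : canon n = true) :
    (∀ i < 24, get n i < 24) ∧ pk (get n) 24 = n := by
  simp only [canon, Bool.and_eq_true, List.all_eq_true, Nat.blt, Nat.ble_eq, List.mem_range] at h
  have e := Nat.eq_of_beq_eq_true h.1
  exact ⟨fun i hi => h.2 i hi, e⟩

end CfsgLib.J4Index22
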